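import Mathlib
import Groth.Prelude
import Groth.Agent.Lib.Helper8.LD11
import Groth.Agent.Lib.Helper8.CanMod7
import Groth.Agent.Lib.Helper8.Depth28
import Groth.Agent.Lib.Helper8.ABS8
import Groth.Agent.Lib.Helper8.LC17

/-!
# Duality for maximal Cohen–Macaulay modules over a Gorenstein local ring (helper2)

* `ext_subsingleton_of_le_depth`: `Ext^j(M, R) = 0` for `j > 0` when `depth M ≥ dim R`.
* `le_depth_dual`: `depth Hom(M, R) ≥ dim R` when `depth M ≥ dim R`.
-/

set_option autoImplicit false
universe u

namespace Groth.Agent.Helper2.Gor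

open LocCoh IsLocalRing CategoryTheory Abelian Groth.Agent.Helper8.Depth Groth.Agent.Helper8.LC
open Groth.Agent.Helper8.LD Groth.Agent.Helper8.CanMod Groth.Agent.Helper8.ABS

section ExtVanish

variable (R : Type u) [CommRing R] [IsGorensteinLocalRing R] (n : ℕ) (hn : ringKrullDim R = n)

include hn in
/-- Over a Gorenstein local ring, `Ext^j(M, R) = 0` for `j > 0` and `M` maximal Cohen–Macaulay. -/
theorem ext_subsingleton_of_le_depth (M : Type u) [AddCommGroup M] [Module R M]
    [Module.Finite R M] (hd : (n : ℕ∞) ≤ depth R M) (j : ℕ) (hj : 0 < j) :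
    Subsingleton (Ext (ModuleCat.of R M) (ModuleCat.of R R) j) := by
  haveI hCM : IsCohenMacaulayLocalRing R :=
    Groth.Agent.Helper8.Goren.isCohenMacaulayLocalRing_of_isGorensteinLocalRing R
  obtain ⟨g, hg⟩ := exists_isInjectiveHull_H_of_gorenstein R n hn
  by_cases hjn : n < j
  · obtain ⟨hid, -⟩ := Groth.Agent.Helper8.Goren.exists_injectiveDimension_eq_dim R n hn
    exact hid.subsingleton (ModuleCat.of R R) (n + 1) j (by omega) _
  · push Not at hjn
    obtain ⟨i, hi⟩ : ∃ i, i + j = n := ⟨n - j, by omega⟩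
    obtain ⟨e⟩ := nonempty_H_equiv_dual_ext_of_gorenstein R n hn _ g hg M i j hi
    have hH : Subsingleton (H (maximalIdeal R) i M) := by
      by_cases hM : Subsingleton M
      · exact subsingleton_of_subsingleton _ i _
      · rw [not_subsingleton_iff_nontrivial] at hM
        refine subsingleton_of_lt_idealDepth (maximalIdeal R) (smul_top_ne_top_of_local R M) i ?_
        refine lt_of_lt_of_le ?_ hd
        exact_mod_cast (by omega : i < n)
    have h2 : Subsingleton
        (Ext (ModuleCat.of R M) (ModuleCat.of R R) j →ₗ[R] H (maximalIdeal R) n R) :=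
      e.symm.toEquiv.subsingleton
    exact subsingleton_of_subsingleton_dual R _ g hg _ h2

end ExtVanish

section DualSeq

variable {R : Type u} [CommRing R]
  {N' N N'' : Type u} [AddCommGroup N'] [Module R N'] [AddCommGroup N] [Module R N]
  [AddCommGroup N''] [Module R N'']
  (f : N' →ₗ[R] N) (g : N →ₗ[R] N'') (hf : Function.Injective f) (hg : Function.Surjective g)
  (hfg : Function.Exact f g)

include hg in
lemma lcomp_injective_of_surjective (Y : Type u) [AddCommGroup Y] [Module R Y] :
    Function.Injective (LinearMap.lcomp R Y g) := by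
  intro φ ψ h
  apply LinearMap.ext
  intro x
  obtain ⟨y, rfl⟩ := hg x
  exact LinearMap.congr_fun h y

include hg hfg in
lemma lcomp_exact (Y : Type u) [AddCommGroup Y] [Module R Y] :
    Function.Exact (LinearMap.lcomp R Y g) (LinearMap.lcomp R Y f) := by
  intro φ
  constructor
  · intro hφ
    have hker : LinearMap.ker g ≤ LinearMap.ker φ := by
      intro x hx
      obtain ⟨y, rfl⟩ := (hfg x).mp hx
      exact LinearMap.congr_fun hφ y
    refine ⟨(LinearMap.ker g).liftQ φ hker ∘ₗ
      (g.quotKerEquivOfSurjective hg).symm.toLinearMap, ?_⟩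
    apply LinearMap.ext
    intro x
    simp only [LinearMap.lcomp_apply', LinearMap.comp_apply, LinearEquiv.coe_coe]
    have : (g.quotKerEquivOfSurjective hg).symm (g x) = Submodule.Quotient.mk x := by
      rw [LinearEquiv.symm_apply_eq]
      rfl
    rw [this]
    rfl
  · rintro ⟨ψ, rfl⟩
    apply LinearMap.ext
    intro x
    simp only [LinearMap.lcomp_apply', LinearMap.comp_apply, LinearMap.zero_apply]
    rw [hfg.apply_apply_eq_zero, map_zero]

include hf hg hfg in
/-- If `Ext¹(N'', Y) = 0`, every map `N' → Y` extends to `N`. -/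
lemma lcomp_surjective_of_ext_one (Y : Type u) [AddCommGroup Y] [Module R Y]
    (h : Subsingleton (Ext (ModuleCat.of R N'') (ModuleCat.of R Y) 1)) :
    Function.Surjective (LinearMap.lcomp R Y f) := by
  let S := ModuleCat.shortComplexOfCompEqZero f g hfg.linearMap_comp_eq_zero
  have hS : S.ShortExact := ModuleCat.shortComplex_shortExact S hfg hf hg
  intro φ
  have h0 : hS.extClass.comp (Ext.mk₀ (ModuleCat.ofHom φ)) (add_zero 1) = 0 := by
    haveI : Subsingleton (Ext S.X₃ (ModuleCat.of R Y) 1) := h
    exact Subsingleton.elim _ _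
  obtain ⟨x₂, hx₂⟩ := Ext.contravariant_sequence_exact₁ hS (ModuleCat.of R Y)
    (Ext.mk₀ (ModuleCat.ofHom φ)) (add_zero 1) h0
  obtain ⟨ψ, rfl⟩ := (Ext.mk₀_bijective S.X₂ (ModuleCat.of R Y)).2 x₂
  rw [Ext.mk₀_comp_mk₀] at hx₂
  have h1 := (Ext.mk₀_bijective S.X₁ (ModuleCat.of R Y)).1 hx₂
  refine ⟨ψ.hom, ?_⟩
  have h2 := congrArg ModuleCat.Hom.hom h1
  exact h2

end DualSeq

section DualDepth

variable (R : Type u) [CommRing R] [IsGorensteinLocalRing R] (n : ℕ) (hn : ringKrullDim R = n)

include hn in
lemma depth_self_eq : depth R R = n := by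
  have hCM : IsCohenMacaulayLocalRing R :=
    Groth.Agent.Helper8.Goren.isCohenMacaulayLocalRing_of_isGorensteinLocalRing R
  have h1 := hCM.supportDim_eq_depth
  rw [Module.supportDim_self_eq_ringKrullDim, hn] at h1
  have h2 : ((n : ℕ∞) : WithBot ℕ∞) = ((depth R R : ℕ∞) : WithBot ℕ∞) := h1
  exact (WithBot.coe_injective h2).symm

include hn in
lemma le_depth_pi (m : ℕ) : (n : ℕ∞) ≤ depth R (Fin m → R) := by
  rw [← depth_self_eq R n hn]
  exact idealDepth_le_pi (maximalIdeal R) m

include hn in
lemma le_depth_dual_pi (m : ℕ) : (n : ℕ∞) ≤ depth R ((Fin m → R) →ₗ[R] R) := by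
  have e : (Fin m → R) ≃ₗ[R] ((Fin m → R) →ₗ[R] R) := (Pi.basisFun R (Fin m)).toDualEquiv
  unfold depth
  rw [← idealDepth_congr e]
  exact le_depth_pi R n hn m

include hn in
/-- The dual of a maximal Cohen–Macaulay module over a Gorenstein local ring has depth
at least `min k (dim R)` for every `k`. -/
theorem min_le_depth_dual (k : ℕ) : ∀ (M : Type u) [AddCommGroup M] [Module R M]
    [Module.Finite R M], (n : ℕ∞) ≤ depth R M → ((min k n : ℕ) : ℕ∞) ≤ depth R (M →ₗ[R] R) := by
  induction k with
  | zero =>
    intro M _ _ _ _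
    rw [Nat.zero_min]
    exact bot_le
  | succ k ih =>
    intro M _ _ _ hd
    obtain ⟨m, f, hf⟩ := Module.Finite.exists_fin' R M
    have hex : Function.Exact (LinearMap.ker f).subtype f := by
      intro x
      constructor
      · intro hx; exact ⟨⟨x, hx⟩, rfl⟩
      · rintro ⟨y, rfl⟩; exact y.2
    have hinj : Function.Injective (LinearMap.ker f).subtype := Submodule.subtype_injective _
    -- the syzygy is maximal Cohen–Macaulay
    have hker : (n : ℕ∞) ≤ depth R (LinearMap.ker f) := by
      have h1 := idealDepth_left_ge (maximalIdeal R) (LinearMap.ker f).subtype f hinj hf hex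
      refine le_trans (le_min (le_depth_pi R n hn m) ?_) h1
      exact hd.trans le_self_add
    have ih' := ih (LinearMap.ker f) hker
    have hext := ext_subsingleton_of_le_depth R n hn M hd 1 Nat.one_pos
    have h2 := idealDepth_left_ge (maximalIdeal R) (LinearMap.lcomp R R f)
      (LinearMap.lcomp R R (LinearMap.ker f).subtype)
      (lcomp_injective_of_surjective f hf R)
      (lcomp_surjective_of_ext_one (LinearMap.ker f).subtype f hinj hf hex R hext)
      (lcomp_exact (LinearMap.ker f).subtype f hf hex R)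
    refine le_trans (le_min ?_ ?_) h2
    · refine le_trans ?_ (le_depth_dual_pi R n hn m)
      exact_mod_cast min_le_right _ _
    · have h3 : ((min k n : ℕ) : ℕ∞) + 1 ≤
          idealDepth (maximalIdeal R) ((LinearMap.ker f) →ₗ[R] R) + 1 := by
        gcongr
        exact ih'
      refine le_trans ?_ h3
      have : min (k + 1) n ≤ min k n + 1 := by omega
      exact_mod_cast this

include hn in
/-- The dual of a maximal Cohen–Macaulay module over a Gorenstein local ring is maximal
Cohen–Macaulay (or zero). -/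
theorem le_depth_dual (M : Type u) [AddCommGroup M] [Module R M] [Module.Finite R M]
    (hd : (n : ℕ∞) ≤ depth R M) : (n : ℕ∞) ≤ depth R (M →ₗ[R] R) := by
  have := min_le_depth_dual R n hn n M hd
  rwa [min_self] at this

end DualDepth

end Groth.Agent.Helper2.Gor
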