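import Mathlib
import Groth.Prelude
import Groth.Agent.Lib.Helper2.Gor.MCMDual

/-!
# Linkage preserves the Cohen–Macaulay property: the local statement (helper2)

Over a Gorenstein local ring `R` of dimension `n`, if `depth R/I ≥ n` and `J = 0 : I` then
`depth R/J ≥ n`.
-/

set_option autoImplicit false
universe u

namespace Groth.Agent.Helper2.Gor

open LocCoh IsLocalRing CategoryTheory Abelian Groth.Agent.Helper8.Depth

section Local

variable (R : Type u) [CommRing R] [IsGorensteinLocalRing R] (n : ℕ) (hn : ringKrullDim R = n)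

/-- multiplication `R → Hom(I, R)` -/
noncomputable def mulHom (I : Ideal R) : R →ₗ[R] (I →ₗ[R] R) :=
  (LinearMap.lcomp R R I.subtype).comp (LinearMap.ringLmapEquivSelf R R R).symm.toLinearMap

lemma mulHom_apply (I : Ideal R) (a : R) (x : I) : mulHom R I a x = (x : R) * a := by
  unfold mulHom
  simp

lemma ker_mulHom (I : Ideal R) :
    LinearMap.ker (mulHom R I) = (⊥ : Ideal R).colon (I : Set R) := by
  ext a
  rw [LinearMap.mem_ker, Submodule.mem_colon]
  constructor
  · intro h x hx
    have := LinearMap.congr_fun h ⟨x, hx⟩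
    rw [mulHom_apply] at this
    rw [smul_eq_mul, Submodule.mem_bot, mul_comm]
    exact this
  · intro h
    apply LinearMap.ext
    intro x
    rw [mulHom_apply]
    have := h x.1 x.2
    rw [smul_eq_mul, Submodule.mem_bot, mul_comm] at this
    exact this

include hn in
lemma le_depth_ideal (I : Ideal R) (hd : (n : ℕ∞) ≤ depth R (R ⧸ I)) :
    (n : ℕ∞) ≤ depth R I := by
  have h1 := idealDepth_left_ge (maximalIdeal R) I.subtype I.mkQ (Submodule.subtype_injective _)
    (Submodule.mkQ_surjective _) (LinearMap.exact_subtype_mkQ I)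
  refine le_trans (le_min ?_ ?_) h1
  · exact (depth_self_eq R n hn).ge
  · exact hd.trans le_self_add

include hn in
lemma mulHom_surjective (I : Ideal R) (hd : (n : ℕ∞) ≤ depth R (R ⧸ I)) :
    Function.Surjective (mulHom R I) := by
  have hext := ext_subsingleton_of_le_depth R n hn (R ⧸ I) hd 1 Nat.one_pos
  have h1 := lcomp_surjective_of_ext_one I.subtype I.mkQ (Submodule.subtype_injective _)
    (Submodule.mkQ_surjective _) (LinearMap.exact_subtype_mkQ I) R hext
  unfold mulHom
  rw [LinearMap.coe_comp]
  exact h1.comp (LinearEquiv.surjective _)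

include hn in
/-- **Linkage, local form**: if `R/I` is maximal Cohen–Macaulay over the Gorenstein local ring `R`
then so is `R/(0 : I)`. -/
theorem le_depth_quotient_colon (I J : Ideal R) (hJ : (⊥ : Ideal R).colon (I : Set R) = J)
    (hd : (n : ℕ∞) ≤ depth R (R ⧸ I)) : (n : ℕ∞) ≤ depth R (R ⧸ J) := by
  have e : (R ⧸ J) ≃ₗ[R] (I →ₗ[R] R) :=
    (Submodule.quotEquivOfEq _ _ ((ker_mulHom R I).trans hJ).symm).trans
      ((mulHom R I).quotKerEquivOfSurjective (mulHom_surjective R n hn I hd))
  unfold depth
  rw [idealDepth_congr e]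
  exact le_depth_dual R n hn I (le_depth_ideal R n hn I hd)

end Local

end Groth.Agent.Helper2.Gor
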