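import Mathlib
import Groth.Prelude
import Groth.Agent.Lib.Helper2.Gor.LinkCM
import Groth.Agent.Lib.Helper2.CM.Bridge
import Groth.Agent.Lib.Helper2.CM.Colon
import Groth.Agent.Lib.Helper8.GorFlat4

/-!
# Linkage preserves the Cohen–Macaulay property (helper2)

For a Gorenstein ring `A` and ideals `I`, `J` with `0 : I = J`, `0 : J = I`: if `A/I` is a
Cohen–Macaulay ring then so is `A/J`.
-/

set_option autoImplicit false
universe u

namespace Groth.Agent.Helper2.Gor

open LocCoh IsLocalRing Groth.Agent.Helper8.Depth Groth.Agent.Helper2.CM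

section ColonLoc

variable {A : Type u} [CommRing A] (S : Submonoid A) (B : Type u) [CommRing B] [Algebra A B]
  [IsLocalization S B]

lemma colon_sup (N I₁ I₂ : Ideal A) :
    N.colon ((I₁ ⊔ I₂ : Ideal A) : Set A) = N.colon (I₁ : Set A) ⊓ N.colon (I₂ : Set A) := by
  ext r
  rw [Submodule.mem_inf, Submodule.mem_colon, Submodule.mem_colon, Submodule.mem_colon]
  constructor
  · intro h
    exact ⟨fun s hs => h s (Ideal.mem_sup_left hs), fun s hs => h s (Ideal.mem_sup_right hs)⟩
  · rintro ⟨h1, h2⟩ s hs
    obtain ⟨a, ha, b, hb, rfl⟩ := Submodule.mem_sup.mp hs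
    rw [smul_add]
    exact N.add_mem (h1 a ha) (h2 b hb)

include S in
lemma map_colon_bot_le (I : Ideal A) :
    ((⊥ : Ideal A).colon (I : Set A)).map (algebraMap A B) ≤
      (⊥ : Ideal B).colon ((I.map (algebraMap A B) : Ideal B) : Set B) := by
  intro b hb
  rw [Submodule.mem_colon]
  intro x hx
  have h1 : b * x ∈ (((⊥ : Ideal A).colon (I : Set A)) * I).map (algebraMap A B) := by
    rw [Ideal.map_mul]
    exact Ideal.mul_mem_mul hb hx
  have h2 : ((⊥ : Ideal A).colon (I : Set A)) * I = ⊥ := by
    rw [eq_bot_iff, Ideal.mul_le]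
    intro a ha y hy
    rw [Submodule.mem_colon] at ha
    exact ha y hy
  rw [h2, Ideal.map_bot] at h1
  exact h1

include S in
lemma colon_bot_map_le (I : Ideal A) (hI : I.FG) :
    (⊥ : Ideal B).colon ((I.map (algebraMap A B) : Ideal B) : Set B) ≤
      ((⊥ : Ideal A).colon (I : Set A)).map (algebraMap A B) := by
  refine Submodule.fg_induction (R := A) (M := A) (motive := fun I _ =>
    (⊥ : Ideal B).colon ((Ideal.map (algebraMap A B) I : Ideal B) : Set B) ≤
      ((⊥ : Ideal A).colon (I : Set A)).map (algebraMap A B)) ?_ ?_ I hI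
  · intro g b hb
    have h0 : Ideal.map (algebraMap A B) (Submodule.span A {g}) =
        Ideal.span {algebraMap A B g} := by
      change Ideal.map (algebraMap A B) (Ideal.span {g}) = _
      rw [Ideal.map_span, Set.image_singleton]
    rw [h0, Ideal.colon_span, Submodule.mem_colon_singleton, smul_eq_mul, Submodule.mem_bot] at hb
    obtain ⟨a, s, rfl⟩ := IsLocalization.exists_mk'_eq S b
    rw [IsLocalization.mk'_mem_map_algebraMap_iff]
    have h1 : IsLocalization.mk' B (g * a) s = 0 := by
      rw [← IsLocalization.mul_mk'_eq_mk'_of_mul, mul_comm]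
      exact hb
    obtain ⟨m, hm⟩ := (IsLocalization.mk'_eq_zero_iff (g * a) s).mp h1
    refine ⟨m, m.2, ?_⟩
    change (m : A) * a ∈ (⊥ : Ideal A).colon ((Ideal.span {g} : Ideal A) : Set A)
    rw [Ideal.colon_span, Submodule.mem_colon_singleton, smul_eq_mul, Submodule.mem_bot]
    rw [← hm]
    ring
  · intro I₁ I₂ _ _ h1 h2
    change (⊥ : Ideal B).colon ((Ideal.map (algebraMap A B) (I₁ ⊔ I₂ : Ideal A) : Ideal B) : Set B) ≤
      ((⊥ : Ideal A).colon ((I₁ ⊔ I₂ : Ideal A) : Set A)).map (algebraMap A B)
    rw [Ideal.map_sup, colon_sup, colon_sup, IsLocalization.map_inf S B]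
    exact inf_le_inf h1 h2

include S in
lemma colon_bot_map (I J : Ideal A) (hI : I.FG) (hIJ : (⊥ : Ideal A).colon (I : Set A) = J) :
    (⊥ : Ideal B).colon ((I.map (algebraMap A B) : Ideal B) : Set B) = J.map (algebraMap A B) := by
  rw [← hIJ]
  exact le_antisymm (colon_bot_map_le S B I hI) (map_colon_bot_le S B I)

end ColonLoc

section QuotLoc

variable {A : Type u} [CommRing A] (P : Ideal A) [P.IsPrime] (J : Ideal A)

/-- `(A/J)_P ≃ A_P / J A_P` as `A_P`-modules. -/
noncomputable def quotLocEquiv :
    LocalizedModule P.primeCompl (A ⧸ J) ≃ₗ[Localization.AtPrime P]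
      (Localization.AtPrime P ⧸ J.map (algebraMap A (Localization.AtPrime P))) :=
  have := IsLocalization.linearMap_compatibleSMul P.primeCompl (Localization.AtPrime P)
    (LocalizedModule P.primeCompl (A ⧸ J))
    (Localization.AtPrime P ⧸ Submodule.localized' (Localization.AtPrime P) P.primeCompl
      (Algebra.linearMap A (Localization.AtPrime P)) J)
  ((IsLocalizedModule.linearEquiv P.primeCompl
      (LocalizedModule.mkLinearMap P.primeCompl (A ⧸ J))
      (Submodule.toLocalizedQuotient' (Localization.AtPrime P) P.primeCompl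
        (Algebra.linearMap A (Localization.AtPrime P)) J)).restrictScalars
      (Localization.AtPrime P)).trans
    (Submodule.quotEquivOfEq _ _ (Ideal.localized'_eq_map _ _ _))

end QuotLoc

section LocalCM

variable (B : Type u) [CommRing B] [IsCohenMacaulayLocalRing B] (n : ℕ)
  (hn : ringKrullDim B = n)

include hn in
lemma depth_self_eq_of_cm : depth B B = n := by
  have hCM : IsCohenMacaulayLocalRing B := inferInstance
  have h1 := hCM.supportDim_eq_depth
  rw [Module.supportDim_self_eq_ringKrullDim, hn] at h1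
  have h2 : ((n : ℕ∞) : WithBot ℕ∞) = ((depth B B : ℕ∞) : WithBot ℕ∞) := h1
  exact (WithBot.coe_injective h2).symm

include hn in
/-- a Cohen–Macaulay quotient by an annihilator ideal is maximal Cohen–Macaulay -/
theorem le_depth_quotient_of_cm (I' J' : Ideal B) (hJI : (⊥ : Ideal B).colon (J' : Set B) = I')
    (hCM : I' ≠ ⊤ → IsCohenMacaulayModule B (B ⧸ I')) : (n : ℕ∞) ≤ depth B (B ⧸ I') := by
  by_cases htop : I' = ⊤
  · haveI : Subsingleton (B ⧸ I') := by
      rw [Submodule.Quotient.subsingleton_iff]; exact htop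
    rw [depth_eq_top_of_subsingleton]
    exact le_top
  · haveI : Nontrivial (B ⧸ I') := Ideal.Quotient.nontrivial_iff.mpr htop
    obtain ⟨𝔭, h𝔭⟩ := associatedPrimes.nonempty B (B ⧸ I')
    have h1 : 𝔭 ∈ associatedPrimes B (B ⧸ (⊥ : Ideal B)) := by
      apply associatedPrimes_colon_subset ⊥ J'
      rw [hJI]
      exact h𝔭
    have h2 : 𝔭 ∈ associatedPrimes B B := by
      rw [← LinearEquiv.AssociatedPrimes.eq (Submodule.quotEquivOfEqBot (⊥ : Ideal B) rfl)]
      exact h1
    have h3 := depth_le_dim_quotient_associatedPrime 𝔭 h2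
    have h4 := dim_quotient_associatedPrime_le_supportDim 𝔭 h𝔭
    have h5 := hCM htop
    unfold IsCohenMacaulayModule at h5
    rw [depth_self_eq_of_cm B n hn] at h3
    have h6 : ((n : ℕ∞) : WithBot ℕ∞) ≤ ((depth B (B ⧸ I') : ℕ∞) : WithBot ℕ∞) := by
      rw [← h5]
      exact h3.trans h4
    exact WithBot.coe_le_coe.mp h6

include hn in
/-- a finite nontrivial module of depth at least `dim B` is Cohen–Macaulay -/
theorem cm_of_le_depth (M : Type u) [AddCommGroup M] [Module B M] [Module.Finite B M]
    [Nontrivial M] (hd : (n : ℕ∞) ≤ depth B M) : IsCohenMacaulayModule B M := by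
  unfold IsCohenMacaulayModule
  apply le_antisymm
  · refine (Module.supportDim_le_ringKrullDim B M).trans ?_
    rw [hn]
    exact WithBot.coe_le_coe.mpr hd
  · exact depth_le_supportDim

end LocalCM

section Global

variable (A : Type u) [CommRing A] [hG : IsGorensteinRing A]

/-- the local depth estimate behind the linkage theorem -/
theorem le_depth_localization_quotient_of_linked (I J : Ideal A)
    (hIJ : (⊥ : Ideal A).colon (I : Set A) = J) (hJI : (⊥ : Ideal A).colon (J : Set A) = I)
    (hCM : IsCohenMacaulayRing (A ⧸ I)) (P : Ideal A) [P.IsPrime] (n : ℕ)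
    (hn : ringKrullDim (Localization.AtPrime P) = n) :
    (n : ℕ∞) ≤ depth (Localization.AtPrime P)
      (Localization.AtPrime P ⧸ J.map (algebraMap A (Localization.AtPrime P))) := by
  haveI : IsNoetherianRing A := by haveI := hG; infer_instance
  haveI hGl : IsGorensteinLocalRing (Localization.AtPrime P) :=
    hG.isGorensteinLocalRing_localization P
  haveI hCMl : IsCohenMacaulayLocalRing (Localization.AtPrime P) :=
    Groth.Agent.Helper8.Goren.isCohenMacaulayLocalRing_of_isGorensteinLocalRing _
  have hI'J' := colon_bot_map P.primeCompl (Localization.AtPrime P) I J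
    (IsNoetherian.noetherian I) hIJ
  have hJ'I' := colon_bot_map P.primeCompl (Localization.AtPrime P) J I
    (IsNoetherian.noetherian J) hJI
  have hdI : (n : ℕ∞) ≤ depth (Localization.AtPrime P)
      (Localization.AtPrime P ⧸ I.map (algebraMap A (Localization.AtPrime P))) := by
    apply le_depth_quotient_of_cm (Localization.AtPrime P) n hn _ _ hJ'I'
    intro htop
    have hIP : I ≤ P := by
      by_contra hcon
      apply htop
      obtain ⟨x, hxI, hxP⟩ := Set.not_subset.mp hcon
      rw [Ideal.eq_top_iff_one]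
      have hu : IsUnit (algebraMap A (Localization.AtPrime P) x) :=
        IsLocalization.map_units (Localization.AtPrime P) (⟨x, hxP⟩ : P.primeCompl)
      rw [← Ideal.unit_mul_mem_iff_mem _ hu, mul_one]
      exact Ideal.mem_map_of_mem _ hxI
    haveI hq : (P.map (Ideal.Quotient.mk I)).IsPrime := isPrime_map_mk I P hIP
    have h1 := (cm_localizedModule_quotient_iff I P hIP).mpr
      (hCM.isCohenMacaulayLocalRing_localization _)
    exact (isCohenMacaulayModule_congr (quotLocEquiv P I)).mp h1
  exact le_depth_quotient_colon (Localization.AtPrime P) n hn _ _ hI'J' hdI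

/-- **Linkage preserves the Cohen–Macaulay property.** -/
theorem isCohenMacaulayRing_quotient_of_linked (I J : Ideal A)
    (hIJ : (⊥ : Ideal A).colon (I : Set A) = J) (hJI : (⊥ : Ideal A).colon (J : Set A) = I)
    (hCM : IsCohenMacaulayRing (A ⧸ I)) : IsCohenMacaulayRing (A ⧸ J) := by
  haveI : IsNoetherianRing A := by haveI := hG; infer_instance
  refine { isCohenMacaulayLocalRing_localization := ?_ }
  intro Q hQ
  have hJP : J ≤ Q.comap (Ideal.Quotient.mk J) := by
    intro x hx
    rw [Ideal.mem_comap, Ideal.Quotient.eq_zero_iff_mem.mpr hx]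
    exact Q.zero_mem
  have hQP : Q = (Q.comap (Ideal.Quotient.mk J)).map (Ideal.Quotient.mk J) :=
    (Ideal.map_comap_of_surjective _ Ideal.Quotient.mk_surjective _).symm
  haveI hPp : (Q.comap (Ideal.Quotient.mk J)).IsPrime := Ideal.comap_isPrime _ _
  generalize Q.comap (Ideal.Quotient.mk J) = P at hJP hQP hPp
  subst hQP
  rw [← cm_localizedModule_quotient_iff J P hJP]
  -- the local situation
  haveI hGl : IsGorensteinLocalRing (Localization.AtPrime P) :=
    hG.isGorensteinLocalRing_localization P
  haveI hCMl : IsCohenMacaulayLocalRing (Localization.AtPrime P) :=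
    Groth.Agent.Helper8.Goren.isCohenMacaulayLocalRing_of_isGorensteinLocalRing _
  obtain ⟨n, hn⟩ := Groth.Agent.Helper8.GorFlat.exists_dim_eq (Localization.AtPrime P)
  have hdJ := le_depth_localization_quotient_of_linked A I J hIJ hJI hCM P n hn
  have hJ'top : J.map (algebraMap A (Localization.AtPrime P)) ≠ ⊤ := by
    rw [IsLocalization.map_algebraMap_ne_top_iff_disjoint P.primeCompl]
    rw [Set.disjoint_left]
    intro x hx hxJ
    exact hx (hJP hxJ)
  haveI : Nontrivial (Localization.AtPrime P ⧸ J.map (algebraMap A (Localization.AtPrime P))) :=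
    Ideal.Quotient.nontrivial_iff.mpr hJ'top
  have h2 := cm_of_le_depth (Localization.AtPrime P) n hn _ hdJ
  exact (isCohenMacaulayModule_congr (quotLocEquiv P J)).mpr h2

end Global

end Groth.Agent.Helper2.Gor
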