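import Mathlib
import Groth.Prelude
import Groth.Agent.Lib.Helper8.GorArt3

/-!
# Double annihilators in Artinian Gorenstein local rings (helper2)
-/

set_option autoImplicit false
universe u

namespace Groth.Agent.Helper2.Gor

open IsLocalRing CategoryTheory LocCoh Groth.Agent.Helper8.GorArt

section Equiv

variable {B : Type u} [CommRing B]

/-- Maps out of `B ⧸ 𝔞` into `B` are the elements of the annihilator of `𝔞`. -/
noncomputable def homQuotEquivAnn (𝔞 : Ideal B) :
    ((B ⧸ 𝔞) →ₗ[B] B) ≃ₗ[B] (Submodule.annihilator 𝔞 : Ideal B) where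
  toFun f := ⟨f (Submodule.Quotient.mk 1), by
    rw [Submodule.mem_annihilator]
    intro n hn
    rw [smul_eq_mul, mul_comm, ← smul_eq_mul, ← map_smul, ← Submodule.Quotient.mk_smul,
      smul_eq_mul, mul_one, (Submodule.Quotient.mk_eq_zero _).mpr hn, map_zero]⟩
  map_add' f g := by
    ext
    rfl
  map_smul' c f := by
    ext
    rfl
  invFun x := Submodule.liftQ 𝔞 (LinearMap.toSpanSingleton B B x.1) (by
    intro r hr
    rw [LinearMap.mem_ker, LinearMap.toSpanSingleton_apply, smul_eq_mul, mul_comm]
    exact (Submodule.mem_annihilator.mp x.2) r hr)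
  left_inv f := by
    refine LinearMap.ext fun y => ?_
    obtain ⟨y, rfl⟩ := Submodule.Quotient.mk_surjective _ y
    rw [Submodule.liftQ_apply, LinearMap.toSpanSingleton_apply]
    change y • f (Submodule.Quotient.mk 1) = _
    rw [← map_smul, ← Submodule.Quotient.mk_smul, smul_eq_mul, mul_one]
  right_inv x := by
    ext
    change Submodule.liftQ 𝔞 (LinearMap.toSpanSingleton B B x.1) _
      (Submodule.Quotient.mk 1) = _
    rw [Submodule.liftQ_apply, LinearMap.toSpanSingleton_apply, one_smul]

end Equiv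

variable (B : Type u) [CommRing B] [IsLocalRing B] [IsArtinianRing B]

theorem injective_self_of_isGorensteinLocalRing [hG : IsGorensteinLocalRing B] :
    Module.Injective B B := by
  have h1 := (Groth.Agent.Helper8.Goren.exists_injectiveDimension_eq_dim B 0
    (by rw [ringKrullDim_eq_zero B]; rfl)).1
  rw [zero_add, ← injective_iff_hasInjectiveDimensionLT_one] at h1
  exact (Module.injective_iff_injective_object B B).mpr h1

theorem length_annihilator_eq [hG : IsGorensteinLocalRing B] (𝔟 : Ideal B) :
    Module.length B (Submodule.annihilator 𝔟 : Ideal B) = Module.length B (B ⧸ 𝔟) := by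
  haveI := injective_self_of_isGorensteinLocalRing B
  rw [← (homQuotEquivAnn 𝔟).length_eq, length_hom_eq B (B ⧸ 𝔟) (isFiniteLength_of_finite B (B ⧸ 𝔟)),
    length_soc_eq_one_of_injective B, one_mul]

theorem length_self_eq_add (𝔟 : Ideal B) :
    Module.length B B = Module.length B 𝔟 + Module.length B (B ⧸ 𝔟) :=
  Module.length_eq_add_of_exact (Submodule.subtype 𝔟) (Submodule.mkQ 𝔟)
    (Submodule.subtype_injective 𝔟) (Submodule.mkQ_surjective 𝔟) (LinearMap.exact_subtype_mkQ 𝔟)

/-- In an Artinian Gorenstein local ring, `ann (ann 𝔞) = 𝔞`. -/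
theorem annihilator_annihilator_eq [hG : IsGorensteinLocalRing B] (𝔞 : Ideal B) :
    (Submodule.annihilator (Submodule.annihilator 𝔞 : Ideal B) : Ideal B) = 𝔞 := by
  set 𝔟 : Ideal B := Submodule.annihilator 𝔞 with h𝔟
  set 𝔞' : Ideal B := Submodule.annihilator 𝔟 with h𝔞'
  have hle : 𝔞 ≤ 𝔞' := by
    intro a ha
    rw [h𝔞', Submodule.mem_annihilator]
    intro b hb
    rw [h𝔟, Submodule.mem_annihilator] at hb
    rw [smul_eq_mul, mul_comm]
    exact hb a ha
  have h1 := length_annihilator_eq B 𝔞
  have h2 := length_annihilator_eq B 𝔟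
  have h3 := length_self_eq_add B 𝔞
  have h4 := length_self_eq_add B 𝔟
  rw [← h𝔟] at h1
  rw [← h𝔞'] at h2
  have hfin : Module.length B (B ⧸ 𝔞) ≠ ⊤ :=
    Module.length_ne_top_iff.mpr (isFiniteLength_of_finite B (B ⧸ 𝔞))
  have hlen : Module.length B 𝔞 = Module.length B 𝔞' := by
    rw [h1, ← h2, h3, add_comm] at h4
    exact ENat.add_right_injective_of_ne_top hfin h4
  by_contra hne
  have hlt : 𝔞 < 𝔞' := lt_of_le_of_ne hle (fun h => hne h.symm)
  have := Submodule.height_strictMono (R := B) (M := B) hlt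
  rw [← Module.length_submodule, ← Module.length_submodule, hlen] at this
  exact lt_irrefl _ this

end Groth.Agent.Helper2.Gor
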