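import Mathlib
import Groth.Prelude
import Groth.Agent.Lib.Helper2.Gor.DoubleAnn
import Groth.Agent.Lib.Helper8.Murthy3
import Groth.Agent.Lib.Helper8.CanMod8

/-!
# A Cohen–Macaulay quotient of a Gorenstein local ring by the annihilator of an element (helper2)

If `S` is a Gorenstein local ring, `J = 0 : x`, `0 : J = (x)` and `S/J` is Cohen–Macaulay of the
same dimension as `S`, then `S/J` is Gorenstein: its canonical module `Hom_S(S/J, S) = 0 : J = (x)`
is isomorphic to `S/(0 : x) = S/J`.
-/

set_option autoImplicit false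
universe u

namespace Groth.Agent.Helper2.Gor

open LocCoh IsLocalRing CategoryTheory Abelian InjHull Groth.Agent.Helper8.LD
  Groth.Agent.Helper8.CanMod Groth.Agent.Helper8.Murthy

section Local

variable (S : Type u) [CommRing S]

/-- `(x) ≃ S/(0 : x)` -/
noncomputable def spanSingletonEquivQuot (x : S) (J : Ideal S)
    (hJ : (⊥ : Ideal S).colon {x} = J) : (S ⧸ J) ≃ₗ[S] (Ideal.span {x} : Ideal S) := by
  have hker : LinearMap.ker (LinearMap.toSpanSingleton S S x) = J := by
    rw [← hJ]
    ext a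
    rw [LinearMap.mem_ker, LinearMap.toSpanSingleton_apply, Submodule.mem_colon_singleton,
      Submodule.mem_bot]
  have hrange : LinearMap.range (LinearMap.toSpanSingleton S S x) = Ideal.span {x} := by
    rw [LinearMap.range_toSpanSingleton]
  exact (Submodule.quotEquivOfEq _ _ hker.symm).trans
    ((LinearMap.quotKerEquivRange (LinearMap.toSpanSingleton S S x)).trans
      (LinearEquiv.ofEq _ _ hrange))

variable [hG : IsGorensteinLocalRing S] (n : ℕ) (hn : ringKrullDim S = n)

include hn in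
theorem isGorensteinLocalRing_quotient_ann (x : S) (J : Ideal S)
    (hJ : (⊥ : Ideal S).colon {x} = J)
    (hxJ : (⊥ : Ideal S).colon (J : Set S) = Ideal.span {x})
    [hCM : IsCohenMacaulayLocalRing (S ⧸ J)] (hdim : ringKrullDim (S ⧸ J) = n) :
    IsGorensteinLocalRing (S ⧸ J) := by
  obtain ⟨E, _, _, f, hf⟩ :=
    Groth.Agent.Helper1.InjHullL.exists_injectiveHull (R := S ⧸ J) (ResidueField (S ⧸ J))
  letI : Module S E := Module.compHom E (algebraMap S (S ⧸ J))
  haveI : IsScalarTower S (S ⧸ J) E := IsScalarTower.of_algebraMap_smul (fun r x => rfl)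
  obtain ⟨K, _, _, _, _, hKfin, ⟨eK⟩, ⟨eExt⟩⟩ := exists_canon_ext (S ⧸ J) n hdim E f hf S
    Ideal.Quotient.mk_surjective n hn
  haveI := hKfin
  rw [Nat.sub_self] at eExt
  have hann : (Submodule.annihilator J : Ideal S) = Ideal.span {x} := by
    rw [← hxJ, Submodule.bot_colon]
  let e1 : K ≃ₗ[S] (S ⧸ J) :=
    eExt.trans ((ext0Equiv (S ⧸ J) S).trans ((homQuotEquivAnn J).trans
      ((LinearEquiv.ofEq _ _ hann).trans (spanSingletonEquivQuot S x J hJ).symm)))
  let e2 : K ≃ₗ[S ⧸ J] (S ⧸ J) :=
    e1.extendScalarsOfSurjective Ideal.Quotient.mk_surjective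
  exact (isGorensteinLocalRing_iff_canon_free (S ⧸ J) n hdim E f hf K eK).mpr ⟨e2⟩

end Local

end Groth.Agent.Helper2.Gor
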