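import Mathlib
import Groth.Prelude
import Groth.Agent.Lib.Helper2.Gor.AnnGor
import Groth.Agent.Lib.Helper2.Gor.LinkCMGlobal
import Groth.Agent.Lib.Helper8.Sk1
import Groth.Agent.Lib.Helper8.GorFlat5

/-!
# Quotients of a Gorenstein ring by the annihilator of an element (helper2)

If `A` is a Gorenstein ring, `J = 0 : x`, `0 : J = (x)` and `A/(x)` is Cohen–Macaulay, then `A/J`
is Gorenstein.
-/

set_option autoImplicit false
universe u

namespace Groth.Agent.Helper2.Gor

open LocCoh IsLocalRing Groth.Agent.Helper8.Depth Groth.Agent.Helper2.CM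
  Groth.Agent.Helper8.GorFlat

section LocalCM

variable (S : Type u) [CommRing S] [IsCohenMacaulayLocalRing S] (n : ℕ)
  (hn : ringKrullDim S = n)

include hn in
/-- a quotient of depth `dim S` is a Cohen–Macaulay local ring of dimension `dim S` -/
theorem cmLocalRing_quotient_of_le_depth (J : Ideal S) (hJ : J ≠ ⊤)
    (hd : (n : ℕ∞) ≤ depth S (S ⧸ J)) :
    IsCohenMacaulayLocalRing (S ⧸ J) ∧ ringKrullDim (S ⧸ J) = n := by
  haveI : Nontrivial (S ⧸ J) := Ideal.Quotient.nontrivial_iff.mpr hJ
  have hJm : J ≤ maximalIdeal S := le_maximalIdeal hJ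
  haveI := isLocalRing_quot J hJm
  haveI := isLocalHom_mk J hJm
  have h1 := cm_of_le_depth S n hn (S ⧸ J) hd
  unfold IsCohenMacaulayModule at h1
  have h2 : depth S (S ⧸ J) = depth (S ⧸ J) (S ⧸ J) := depth_eq_of_tower S (S ⧸ J) (S ⧸ J)
  rw [Module.supportDim_quotient_eq_ringKrullDim, h2] at h1
  have h3 : ringKrullDim (S ⧸ J) = n := by
    apply le_antisymm
    · have := ringKrullDim_le_of_surjective (Ideal.Quotient.mk J) Ideal.Quotient.mk_surjective
      rw [hn] at this
      exact this
    · rw [h1, ← h2]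
      exact WithBot.coe_le_coe.mpr hd
  refine ⟨{ supportDim_eq_depth := ?_ }, h3⟩
  rw [Module.supportDim_self_eq_ringKrullDim]
  exact h1

end LocalCM

section Global

variable (A : Type u) [CommRing A] [hG : IsGorensteinRing A]

theorem isGorensteinRing_quotient_ann (x : A) (J : Ideal A)
    (hJ : (⊥ : Ideal A).colon ((Ideal.span {x} : Ideal A) : Set A) = J)
    (hxJ : (⊥ : Ideal A).colon (J : Set A) = Ideal.span {x})
    (hCM : IsCohenMacaulayRing (A ⧸ Ideal.span {x})) : IsGorensteinRing (A ⧸ J) := by
  haveI : IsNoetherianRing A := by haveI := hG; infer_instance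
  refine { isGorensteinLocalRing_localization := fun Q' hQ' => ?_ }
  have hJq : J ≤ Q'.comap (Ideal.Quotient.mk J) := by
    intro y hy
    rw [Ideal.mem_comap, Ideal.Quotient.eq_zero_iff_mem.mpr hy]
    exact Q'.zero_mem
  have hmap : Q' = (Q'.comap (Ideal.Quotient.mk J)).map (Ideal.Quotient.mk J) :=
    (Ideal.map_comap_of_surjective _ Ideal.Quotient.mk_surjective Q').symm
  haveI hqp : (Q'.comap (Ideal.Quotient.mk J)).IsPrime := Ideal.comap_isPrime _ _
  generalize Q'.comap (Ideal.Quotient.mk J) = q at hJq hmap hqp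
  subst hmap
  haveI hGl : IsGorensteinLocalRing (Localization.AtPrime q) :=
    hG.isGorensteinLocalRing_localization q
  haveI hCMl : IsCohenMacaulayLocalRing (Localization.AtPrime q) :=
    Groth.Agent.Helper8.Goren.isCohenMacaulayLocalRing_of_isGorensteinLocalRing _
  obtain ⟨n, hn⟩ := Groth.Agent.Helper8.GorFlat.exists_dim_eq (Localization.AtPrime q)
  have hdJ := le_depth_localization_quotient_of_linked A _ J hJ hxJ hCM q n hn
  have hJ'top : J.map (algebraMap A (Localization.AtPrime q)) ≠ ⊤ := by
    rw [IsLocalization.map_algebraMap_ne_top_iff_disjoint q.primeCompl]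
    rw [Set.disjoint_left]
    intro y hy hyJ
    exact hy (hJq hyJ)
  obtain ⟨hCMq, hdimq⟩ := cmLocalRing_quotient_of_le_depth (Localization.AtPrime q) n hn _
    hJ'top hdJ
  have hspan : (Ideal.span {x} : Ideal A).map (algebraMap A (Localization.AtPrime q)) =
      Ideal.span {algebraMap A (Localization.AtPrime q) x} := by
    rw [Ideal.map_span, Set.image_singleton]
  have h1 := colon_bot_map q.primeCompl (Localization.AtPrime q) _ J
    (IsNoetherian.noetherian _) hJ
  have h2 := colon_bot_map q.primeCompl (Localization.AtPrime q) J _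
    (IsNoetherian.noetherian J) hxJ
  rw [hspan] at h1 h2
  rw [Ideal.colon_span] at h1
  have h3 := isGorensteinLocalRing_quotient_ann (Localization.AtPrime q) n hn
    (algebraMap A (Localization.AtPrime q) x) _ h1 h2 hdimq
  exact isGorensteinLocalRing_of_ringEquiv
    (Groth.Agent.Helper8.Sk.locQuotEquiv A J q hJq).symm h3

end Global

end Groth.Agent.Helper2.Gor
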