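import Mathlib
import Groth.Prelude
import Groth.Agent.Lib.Helper2.CM.Unmixed
import Groth.Agent.Lib.Helper3.KosBC2
import Groth.Agent.Lib.Helper8.Koszul6
import Groth.Agent.Lib.Helper8.GorFlat11
import Groth.Agent.Lib.Helper8.Sk1

/-!
# Complete intersections in Gorenstein rings are Gorenstein (helper2)

If `R` is a Gorenstein ring and `J` is generated by `r` elements with `r ≤ height J`, then
`R ⧸ J` is a Gorenstein ring.
-/

set_option autoImplicit false
universe u

namespace Groth.Agent.Helper2.Gor

open RingTheory.Sequence LocCoh Pointwise IsLocalRing Groth.Agent.Helper8.Depth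
  Groth.Agent.Helper2.CM

variable {R : Type u} [CommRing R]

/-- In a Cohen–Macaulay ring, `r` elements generating an ideal of height `≥ r` inside a prime `P`
form a regular sequence in `R_P`. -/
theorem isWeaklyRegular_localization_of_height (hCM : IsCohenMacaulayRing R) (xs : List R)
    (hht : (xs.length : ℕ∞) ≤ (Ideal.ofList xs).height) (P : Ideal R) [hPp : P.IsPrime]
    (hJP : Ideal.ofList xs ≤ P) :
    IsWeaklyRegular (Localization.AtPrime P)
      (xs.map (algebraMap R (Localization.AtPrime P))) := by
  haveI := hCM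
  haveI : IsNoetherianRing R := inferInstance
  set A := Localization.AtPrime P with hA
  set Mp := LocalizedModule P.primeCompl R with hMp
  haveI hAloc : IsCohenMacaulayLocalRing A := hCM.isCohenMacaulayLocalRing_localization P
  have hAring : IsCohenMacaulayRing A :=
    isCohenMacaulayRing_of_isLocalization P.primeCompl hCM
  have hAA : IsCohenMacaulayModule A A := hAloc.supportDim_eq_depth
  have hMpCM : IsCohenMacaulayModule A Mp :=
    (isCohenMacaulayModule_congr (localizedModuleSelfEquiv P)).mpr hAA
  set ys := xs.map (algebraMap R A) with hys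
  have hlen : ys.length = xs.length := List.length_map _
  have hysm : ∀ y ∈ ys, y ∈ maximalIdeal A := by
    intro y hy
    obtain ⟨x, hx, rfl⟩ := List.mem_map.mp hy
    exact (IsLocalization.AtPrime.to_map_mem_maximal_iff A P x).mpr
      (hJP (Ideal.subset_span hx))
  set I := Ideal.ofList ys with hI
  have hIm : I ≤ maximalIdeal A := Ideal.span_le.mpr hysm
  have hItop : I ≠ ⊤ := fun h => (maximalIdeal.isMaximal A).ne_top (top_le_iff.mp (h ▸ hIm))
  have hImap : I = (Ideal.ofList xs).map (algebraMap R A) := by
    rw [hI, hys, Ideal.map_ofList]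
  have hIht : (xs.length : ℕ∞) ≤ I.height := by
    have h1 : Ideal.ofList xs ≤ I.under R := by
      rw [hImap]; exact Ideal.le_comap_map
    have h2 := Ideal.height_mono h1
    rw [IsLocalization.height_under P.primeCompl I] at h2
    exact hht.trans h2
  have hdepthI : idealDepth I Mp = I.height := by
    rw [idealDepth_congr (localizedModuleSelfEquiv P)]
    exact (isCohenMacaulayRing_iff_idealDepth_eq_height.mp hAring) I hItop
  have h1 := cm_supportDim_eq_add_idealDepth I hItop Mp hMpCM
  have h2 := supportDim_le_add_length ys hysm Mp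
  rw [hdepthI] at h1
  have h3 : Module.supportDim A (Mp ⧸ (I • (⊤ : Submodule A Mp))) + (ys.length : WithBot ℕ∞) =
      Module.supportDim A Mp := by
    apply le_antisymm
    · rw [h1, hlen]
      gcongr
      exact_mod_cast hIht
    · exact h2
  obtain ⟨hiff, -⟩ := cm_list ys hysm Mp hMpCM
  have hreg : IsWeaklyRegular Mp ys := hiff.mpr (by exact_mod_cast h3)
  exact (LinearEquiv.isWeaklyRegular_congr (localizedModuleSelfEquiv P) ys).mp hreg

/-- **Complete intersections in Gorenstein rings are Gorenstein.** -/
theorem isGorensteinRing_quotient_ofList (hG : IsGorensteinRing R) (xs : List R)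
    (hht : (xs.length : ℕ∞) ≤ (Ideal.ofList xs).height) :
    IsGorensteinRing (R ⧸ Ideal.ofList xs) := by
  haveI := hG
  haveI : IsNoetherianRing R := inferInstance
  have hCM : IsCohenMacaulayRing R :=
    Groth.Agent.Helper8.GorFlat.isCohenMacaulayRing_of_isGorensteinRing R hG
  refine { isGorensteinLocalRing_localization := fun Q' hQ' => ?_ }
  have hIq : Ideal.ofList xs ≤ Q'.comap (Ideal.Quotient.mk (Ideal.ofList xs)) := by
    intro x hx
    rw [Ideal.mem_comap, Ideal.Quotient.eq_zero_iff_mem.mpr hx]
    exact Q'.zero_mem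
  have hmap : Q' = (Q'.comap (Ideal.Quotient.mk (Ideal.ofList xs))).map
      (Ideal.Quotient.mk (Ideal.ofList xs)) :=
    (Ideal.map_comap_of_surjective _ Ideal.Quotient.mk_surjective Q').symm
  haveI hqp : (Q'.comap (Ideal.Quotient.mk (Ideal.ofList xs))).IsPrime := Ideal.comap_isPrime _ _
  generalize Q'.comap (Ideal.Quotient.mk (Ideal.ofList xs)) = q at hIq hmap hqp
  subst hmap
  have hreg := isWeaklyRegular_localization_of_height hCM xs hht q hIq
  have hkos := (Groth.Agent.Helper8.KoszulLib.koszul_regular _ hreg).1
  have hGl : IsGorensteinLocalRing (Localization.AtPrime q) :=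
    hG.isGorensteinLocalRing_localization q
  have hmem : ∀ y ∈ xs.map (algebraMap R (Localization.AtPrime q)),
      y ∈ maximalIdeal (Localization.AtPrime q) := by
    intro y hy
    obtain ⟨x, hx, rfl⟩ := List.mem_map.mp hy
    exact (IsLocalization.AtPrime.to_map_mem_maximal_iff _ q x).mpr
      (hIq (Ideal.subset_span hx))
  have h1 := Groth.Agent.Helper3.KosBC.isGorensteinLocalRing_quot_of_koszulRegular
    (Localization.AtPrime q) hGl _ hmem hkos
  rw [← Ideal.map_ofList] at h1
  exact Groth.Agent.Helper8.GorFlat.isGorensteinLocalRing_of_ringEquiv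
    (Groth.Agent.Helper8.Sk.locQuotEquiv R (Ideal.ofList xs) q hIq).symm h1

/-- The same for a finite family. -/
theorem isGorensteinRing_quotient_span_range (hG : IsGorensteinRing R) {r : ℕ} (f : Fin r → R)
    (𝔠 : Ideal R) (h𝔠 : Ideal.span (Set.range f) = 𝔠) (hht : (r : ℕ∞) ≤ 𝔠.height) :
    IsGorensteinRing (R ⧸ 𝔠) := by
  have hxs : Ideal.ofList (List.ofFn f) = 𝔠 := by
    rw [← h𝔠]
    unfold Ideal.ofList
    congr 1
    ext x
    simp [List.mem_ofFn]
  have h := isGorensteinRing_quotient_ofList hG (List.ofFn f)
    (by rw [hxs, List.length_ofFn]; exact hht)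
  rw [hxs] at h
  exact h

end Groth.Agent.Helper2.Gor
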