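import Mathlib
import Groth.Prelude
import Groth.Agent.Lib.Helper8.LD10

/-!
# `Ext¹(N'', Y)` as a cokernel (helper2)

For a short exact sequence `0 → N' → N → N'' → 0` with `Ext¹(N, Y) = 0`:
`Ext¹(N'', Y) ≃ Hom(N', Y) / im(Hom(N, Y))`.
-/

set_option autoImplicit false
universe u

namespace Groth.Agent.Helper2.Gor

open CategoryTheory Abelian Groth.Agent.Helper8.LD

variable {R : Type u} [CommRing R]
  {N' N N'' : Type u} [AddCommGroup N'] [Module R N'] [AddCommGroup N] [Module R N]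
  [AddCommGroup N''] [Module R N'']
  (f : N' →ₗ[R] N) (g : N →ₗ[R] N'') (hf : Function.Injective f) (hg : Function.Surjective g)
  (hfg : Function.Exact f g) (Y : Type u) [AddCommGroup Y] [Module R Y]

include hf hg hfg in
theorem nonempty_ext_one_equiv_coker
    (h : Subsingleton (Ext (ModuleCat.of R N) (ModuleCat.of R Y) 1)) :
    Nonempty (Ext (ModuleCat.of R N'') (ModuleCat.of R Y) 1 ≃ₗ[R]
      ((N' →ₗ[R] Y) ⧸ LinearMap.range (LinearMap.lcomp R Y f))) := by
  let S := ModuleCat.shortComplexOfCompEqZero f g hfg.linearMap_comp_eq_zero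
  have hS : S.ShortExact := ModuleCat.shortComplex_shortExact S hfg hf hg
  let Δ : (N' →ₗ[R] Y) →ₗ[R] Ext (ModuleCat.of R N'') (ModuleCat.of R Y) 1 :=
    (extδ hS (ModuleCat.of R Y) 0).comp (ext0Equiv N' Y).symm.toLinearMap
  have hΔsurj : Function.Surjective Δ := by
    have h1 : Function.Surjective (extδ hS (ModuleCat.of R Y) 0) :=
      extδ_surjective hS (ModuleCat.of R Y) 0 h
    exact h1.comp (LinearEquiv.surjective _)
  have hΔker : LinearMap.ker Δ = LinearMap.range (LinearMap.lcomp R Y f) := by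
    ext φ
    rw [LinearMap.mem_ker, LinearMap.mem_range]
    have hex := extδ_exact hS (ModuleCat.of R Y)
    constructor
    · intro hφ
      obtain ⟨x₂, hx₂⟩ := (hex ((ext0Equiv N' Y).symm φ)).mp hφ
      obtain ⟨ψ, rfl⟩ := (Ext.mk₀_bijective S.X₂ (ModuleCat.of R Y)).2 x₂
      refine ⟨ψ.hom, ?_⟩
      have h2 : (Ext.mk₀ S.f).comp (Ext.mk₀ ψ) (zero_add 0) = (ext0Equiv N' Y).symm φ := hx₂
      rw [Ext.mk₀_comp_mk₀] at h2
      have h3 := congrArg (ext0Equiv N' Y) h2
      rw [LinearEquiv.apply_symm_apply, ext0Equiv_mk₀] at h3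
      rw [← h3]
      rfl
    · rintro ⟨ψ, rfl⟩
      apply (hex _).mpr
      refine ⟨Ext.mk₀ (ModuleCat.ofHom ψ), ?_⟩
      change (Ext.mk₀ S.f).comp (Ext.mk₀ (ModuleCat.ofHom ψ)) (zero_add 0) = _
      rw [Ext.mk₀_comp_mk₀]
      apply (ext0Equiv N' Y).injective
      change _ = (ext0Equiv N' Y) ((ext0Equiv N' Y).symm ((LinearMap.lcomp R Y f) ψ))
      rw [LinearEquiv.apply_symm_apply, ext0Equiv_mk₀]
      rfl
  exact ⟨((Submodule.quotEquivOfEq _ _ hΔker.symm).trans
    (Δ.quotKerEquivOfSurjective hΔsurj)).symm⟩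

end Groth.Agent.Helper2.Gor
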