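import Mathlib
import Groth.Prelude
import Groth.Agent.Lib.Helper8.ABS6

/-!
# `Ext` into quotients by regular sequences, and lifting of maps (helper2)

If `Ext^j(M, A) = 0` for all `j > 0` and `xs` is an `A`-regular sequence then
`Ext^j(M, A/(xs)) = 0` for all `j > 0` and every map `M → A/(xs)` lifts to `M → A`.
-/

set_option autoImplicit false
universe u

namespace Groth.Agent.Helper2.Gor

open CategoryTheory Abelian RingTheory.Sequence

section SES

variable {R : Type u} [CommRing R]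
  {N' N N'' : Type u} [AddCommGroup N'] [Module R N'] [AddCommGroup N] [Module R N]
  [AddCommGroup N''] [Module R N'']
  (f : N' →ₗ[R] N) (g : N →ₗ[R] N'') (hf : Function.Injective f) (hg : Function.Surjective g)
  (hfg : Function.Exact f g)

include hf hg hfg in
/-- If `Ext¹(M, N') = 0`, every map `M → N''` lifts to `N`. -/
lemma exists_lift_of_ext_one (M : Type u) [AddCommGroup M] [Module R M]
    (h : Subsingleton (Ext (ModuleCat.of R M) (ModuleCat.of R N') 1)) (φ : M →ₗ[R] N'') :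
    ∃ ψ : M →ₗ[R] N, g ∘ₗ ψ = φ := by
  let S := ModuleCat.shortComplexOfCompEqZero f g hfg.linearMap_comp_eq_zero
  have hS : S.ShortExact := ModuleCat.shortComplex_shortExact S hfg hf hg
  have h0 : (Ext.mk₀ (ModuleCat.ofHom φ) : Ext (ModuleCat.of R M) S.X₃ 0).comp hS.extClass
      (zero_add 1) = 0 := by
    haveI : Subsingleton (Ext (ModuleCat.of R M) S.X₁ 1) := h
    exact Subsingleton.elim _ _
  obtain ⟨x₂, hx₂⟩ := Ext.covariant_sequence_exact₃ (ModuleCat.of R M) hS
    (Ext.mk₀ (ModuleCat.ofHom φ)) (zero_add 1) h0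
  obtain ⟨ψ, rfl⟩ := (Ext.mk₀_bijective (ModuleCat.of R M) S.X₂).2 x₂
  rw [Ext.mk₀_comp_mk₀] at hx₂
  have h1 := (Ext.mk₀_bijective (ModuleCat.of R M) S.X₃).1 hx₂
  refine ⟨ψ.hom, ?_⟩
  have h2 := congrArg ModuleCat.Hom.hom h1
  exact h2

include hf hg hfg in
/-- The long exact sequence: `Ext^j(M, N) = 0 = Ext^{j+1}(M, N')` implies `Ext^j(M, N'') = 0`. -/
lemma ext_subsingleton_right_of_exact (M : Type u) [AddCommGroup M] [Module R M] (j : ℕ)
    (h2 : Subsingleton (Ext (ModuleCat.of R M) (ModuleCat.of R N) j))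
    (h1 : Subsingleton (Ext (ModuleCat.of R M) (ModuleCat.of R N') (j + 1))) :
    Subsingleton (Ext (ModuleCat.of R M) (ModuleCat.of R N'') j) := by
  let S := ModuleCat.shortComplexOfCompEqZero f g hfg.linearMap_comp_eq_zero
  have hS : S.ShortExact := ModuleCat.shortComplex_shortExact S hfg hf hg
  refine subsingleton_of_forall_eq 0 fun x₃ => ?_
  have h0 : (x₃ : Ext (ModuleCat.of R M) S.X₃ j).comp hS.extClass rfl = 0 := by
    haveI : Subsingleton (Ext (ModuleCat.of R M) S.X₁ (j + 1)) := h1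
    exact Subsingleton.elim _ _
  obtain ⟨x₂, hx₂⟩ := Ext.covariant_sequence_exact₃ (ModuleCat.of R M) hS x₃ rfl h0
  haveI : Subsingleton (Ext (ModuleCat.of R M) S.X₂ j) := h2
  rw [← hx₂, Subsingleton.elim x₂ 0, Ext.zero_comp]

end SES

section Cyclic

variable {A : Type u} [CommRing A] (K : Ideal A) (a : A)

/-- the projection `A/K → A/(K + (a))` -/
def quotSupMap : (A ⧸ K) →ₗ[A] (A ⧸ (K ⊔ Ideal.span {a})) :=
  Submodule.mapQ K (K ⊔ Ideal.span {a}) LinearMap.id (by
    rw [Submodule.comap_id]; exact le_sup_left)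

lemma quotSupMap_mk (b : A) :
    quotSupMap K a (Ideal.Quotient.mk K b) = Ideal.Quotient.mk (K ⊔ Ideal.span {a}) b := rfl

lemma quotSupMap_comp_mkQ :
    quotSupMap K a ∘ₗ (Submodule.mkQ K) = Submodule.mkQ (K ⊔ Ideal.span {a}) := by
  apply LinearMap.ext
  intro b
  rfl

lemma quotSupMap_surjective : Function.Surjective (quotSupMap K a) := by
  intro y
  obtain ⟨b, rfl⟩ := Ideal.Quotient.mk_surjective y
  exact ⟨Ideal.Quotient.mk K b, rfl⟩

lemma exact_lsmul_quotSupMap :
    Function.Exact (LinearMap.lsmul A (A ⧸ K) a) (quotSupMap K a) := by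
  intro y
  obtain ⟨b, rfl⟩ := Ideal.Quotient.mk_surjective y
  rw [quotSupMap_mk, Ideal.Quotient.eq_zero_iff_mem, Set.mem_range]
  constructor
  · intro hb
    obtain ⟨k, hk, z, hz, rfl⟩ := Submodule.mem_sup.mp hb
    obtain ⟨c, rfl⟩ := Ideal.mem_span_singleton'.mp hz
    refine ⟨Ideal.Quotient.mk K c, ?_⟩
    rw [LinearMap.lsmul_apply, map_add, Ideal.Quotient.eq_zero_iff_mem.mpr hk, zero_add,
      ← Ideal.Quotient.mk_eq_mk, ← Submodule.Quotient.mk_smul, smul_eq_mul, mul_comm]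
    rfl
  · rintro ⟨z, hz⟩
    obtain ⟨c, rfl⟩ := Ideal.Quotient.mk_surjective z
    rw [LinearMap.lsmul_apply, ← Ideal.Quotient.mk_eq_mk, ← Submodule.Quotient.mk_smul,
      Ideal.Quotient.mk_eq_mk, Ideal.Quotient.eq] at hz
    have h1 : a • c ∈ K ⊔ Ideal.span {a} := by
      rw [smul_eq_mul]
      exact Ideal.mem_sup_right (Ideal.mul_mem_right _ _ (Ideal.mem_span_singleton_self a))
    have h2 : a • c - b ∈ K ⊔ Ideal.span {a} := Ideal.mem_sup_left hz
    have := Submodule.sub_mem _ h1 h2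
    rwa [sub_sub_cancel] at this

end Cyclic

section Good

variable (A : Type u) [CommRing A] (M : Type u) [AddCommGroup M] [Module A M]

/-- all higher `Ext(M, A/K)` vanish and maps `M → A/K` lift to `A` -/
def GoodQuot (K : Ideal A) : Prop :=
  (∀ j, 0 < j → Subsingleton (Ext (ModuleCat.of A M) (ModuleCat.of A (A ⧸ K)) j)) ∧
    ∀ φ : M →ₗ[A] (A ⧸ K), ∃ ψ : M →ₗ[A] A, (Submodule.mkQ K) ∘ₗ ψ = φ

variable {A M}

lemma goodQuot_bot
    (h : ∀ j, 0 < j → Subsingleton (Ext (ModuleCat.of A M) (ModuleCat.of A A) j)) :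
    GoodQuot A M ⊥ := by
  let e : (A ⧸ (⊥ : Ideal A)) ≃ₗ[A] A := Submodule.quotEquivOfEqBot (⊥ : Ideal A) rfl
  refine ⟨fun j hj => ?_, fun φ => ⟨e.toLinearMap ∘ₗ φ, ?_⟩⟩
  · exact Groth.Agent.Helper8.ABS.ext_subsingleton_of_iso_right (ModuleCat.of A M)
      e.symm.toModuleIso j (h j hj)
  · apply LinearMap.ext
    intro m
    simp only [LinearMap.comp_apply, LinearEquiv.coe_coe]
    exact e.symm_apply_apply (φ m)

lemma goodQuot_sup (K : Ideal A) (a : A) (hK : GoodQuot A M K)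
    (ha : IsSMulRegular (A ⧸ K) a) : GoodQuot A M (K ⊔ Ideal.span {a}) := by
  have hf : Function.Injective (LinearMap.lsmul A (A ⧸ K) a) := ha
  refine ⟨fun j hj => ?_, fun φ => ?_⟩
  · exact ext_subsingleton_right_of_exact _ _ hf (quotSupMap_surjective K a)
      (exact_lsmul_quotSupMap K a) M j (hK.1 j hj) (hK.1 (j + 1) (Nat.succ_pos j))
  · obtain ⟨φ', hφ'⟩ := exists_lift_of_ext_one _ _ hf (quotSupMap_surjective K a)
      (exact_lsmul_quotSupMap K a) M (hK.1 1 Nat.one_pos) φ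
    obtain ⟨ψ, hψ⟩ := hK.2 φ'
    refine ⟨ψ, ?_⟩
    rw [← quotSupMap_comp_mkQ, LinearMap.comp_assoc, hψ, hφ']

lemma goodQuot_ofList
    (h : ∀ j, 0 < j → Subsingleton (Ext (ModuleCat.of A M) (ModuleCat.of A A) j))
    (xs : List A) (hreg : IsWeaklyRegular A xs) : GoodQuot A M (Ideal.ofList xs) := by
  induction xs using List.reverseRecOn with
  | nil =>
    rw [Ideal.ofList_nil]
    exact goodQuot_bot h
  | append_singleton l a ih =>
    rw [isWeaklyRegular_append_iff, isWeaklyRegular_singleton_iff] at hreg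
    rw [Ideal.ofList_append, Ideal.ofList_singleton]
    refine goodQuot_sup _ a (ih hreg.1) ?_
    have heq : (Ideal.ofList l • (⊤ : Submodule A A)) = Ideal.ofList l := by
      rw [smul_eq_mul, Ideal.mul_top]
    exact ((Submodule.quotEquivOfEq _ _ heq).isSMulRegular_congr a).mp hreg.2

end Good

end Groth.Agent.Helper2.Gor
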