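import Mathlib
import Groth.Prelude
import Groth.Agent.Lib.Helper2.Gor.LinkCMGlobal

/-!
# Regular sequences of a Cohen–Macaulay local ring are regular on maximal Cohen–Macaulay modules
(helper2)
-/

set_option autoImplicit false
universe u

namespace Groth.Agent.Helper2.Gor

open LocCoh IsLocalRing RingTheory.Sequence Groth.Agent.Helper8.Depth

section

variable (A : Type u) [CommRing A] [IsCohenMacaulayLocalRing A] (n : ℕ)
  (hn : ringKrullDim A = n)

lemma isWeaklyRegular_of_subsingleton {R : Type*} [CommRing R] (M : Type*) [AddCommGroup M]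
    [Module R M] [Subsingleton M] (xs : List R) : IsWeaklyRegular M xs := by
  refine ⟨fun i _ => ?_⟩
  exact Function.injective_of_subsingleton _

lemma supportDim_quotient_smul_top_le {R : Type*} [CommRing R] (M : Type*) [AddCommGroup M]
    [Module R M] [Module.Finite R M] (I : Ideal R) :
    Module.supportDim R (M ⧸ (I • (⊤ : Submodule R M))) ≤
      Module.supportDim R (R ⧸ (I • (⊤ : Submodule R R))) := by
  have h1 : Module.support R (M ⧸ (I • (⊤ : Submodule R M))) ⊆
      Module.support R (R ⧸ (I • (⊤ : Submodule R R))) := by
    rw [Module.support_quotient, Module.support_quotient]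
    intro p hp
    refine ⟨?_, hp.2⟩
    rw [Module.mem_support_iff_of_finite]
    intro a ha
    have := Module.mem_annihilator.mp ha (1 : R)
    rw [smul_eq_mul, mul_one] at this
    rw [this]
    exact p.asIdeal.zero_mem
  exact Order.krullDim_le_of_strictMono (Set.inclusion h1)
    (fun a b hab => hab)

include hn in
/-- An `A`-regular sequence in the maximal ideal of a Cohen–Macaulay local ring `A` is regular on
every maximal Cohen–Macaulay module. -/
theorem isWeaklyRegular_of_le_depth (M : Type u) [AddCommGroup M] [Module A M]
    [Module.Finite A M] (hd : (n : ℕ∞) ≤ depth A M) (xs : List A)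
    (hxs : ∀ x ∈ xs, x ∈ maximalIdeal A) (hreg : IsWeaklyRegular A xs) :
    IsWeaklyRegular M xs := by
  by_cases hM : Subsingleton M
  · exact isWeaklyRegular_of_subsingleton M xs
  rw [not_subsingleton_iff_nontrivial] at hM
  have hCM := cm_of_le_depth A n hn M hd
  have hCMA : IsCohenMacaulayModule A A := IsCohenMacaulayLocalRing.supportDim_eq_depth
  refine ((cm_list xs hxs M hCM).1).mpr ?_
  have h1 := ((cm_list xs hxs A hCMA).1).mp hreg
  rw [Module.supportDim_self_eq_ringKrullDim, hn] at h1
  have h2 : Module.supportDim A M = n := by
    apply le_antisymm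
    · rw [← hn]; exact Module.supportDim_le_ringKrullDim A M
    · unfold IsCohenMacaulayModule at hCM
      rw [hCM]
      exact WithBot.coe_le_coe.mpr hd
  have h3 := supportDim_le_add_length xs hxs M
  have h4 := supportDim_quotient_smul_top_le M (Ideal.ofList xs)
  rw [h2] at h3 ⊢
  apply le_antisymm
  · rw [← h1]
    exact add_le_add_left h4 _
  · exact h3

end

end Groth.Agent.Helper2.Gor
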