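import Mathlib
import Groth.Prelude
import Groth.Agent.Lib.Helper2.Gor.ExtRegQuot
import Groth.Agent.Lib.Helper2.Gor.MCMReg
import Groth.Agent.Lib.Helper2.Gor.LinkCM
import Groth.Agent.Lib.Helper8.FlatReg6
import Groth.Agent.Lib.Helper8.FlatReg11

/-!
# Linkage modulo a regular sequence and flatness over a regular base (helper2)
-/

set_option autoImplicit false
universe u

namespace Groth.Agent.Helper2.Gor

open LocCoh IsLocalRing RingTheory.Sequence CategoryTheory Abelian Groth.Agent.Helper8.Depth

section Inf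

variable {A : Type u} [CommRing A]

lemma mem_ofList_smul_top_quotient (J K : Ideal A) (c : A)
    (h : Ideal.Quotient.mk J c ∈ K • (⊤ : Submodule A (A ⧸ J))) :
    ∃ y ∈ K, c - y ∈ J := by
  rw [Ideal.smul_top_eq_map, Submodule.restrictScalars_mem] at h
  change Ideal.Quotient.mk J c ∈ Ideal.map (Ideal.Quotient.mk J) K at h
  rw [Ideal.mem_map_iff_of_surjective _ Ideal.Quotient.mk_surjective] at h
  obtain ⟨y, hy, hyc⟩ := h
  refine ⟨y, hy, ?_⟩
  rw [← Ideal.Quotient.eq]
  exact hyc.symm

/-- `J ∩ (xs) = (xs) J` when `xs` is a regular sequence on `A/J`. -/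
theorem inf_ofList_eq_mul (J : Ideal A) (xs : List A) (hreg : IsWeaklyRegular (A ⧸ J) xs) :
    J ⊓ Ideal.ofList xs = Ideal.ofList xs * J := by
  induction xs using List.reverseRecOn with
  | nil =>
    rw [Ideal.ofList_nil, inf_bot_eq, Ideal.bot_mul]
  | append_singleton l a ih =>
    rw [isWeaklyRegular_append_iff, isWeaklyRegular_singleton_iff] at hreg
    have ih' := ih hreg.1
    refine le_antisymm ?_ (le_inf Ideal.mul_le_right Ideal.mul_le_left)
    rw [Ideal.ofList_append, Ideal.ofList_singleton]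
    rintro j ⟨hjJ, hj⟩
    obtain ⟨y, hy, z, hz, rfl⟩ := Submodule.mem_sup.mp hj
    obtain ⟨c, rfl⟩ := Ideal.mem_span_singleton'.mp hz
    -- `a • mk (mk c) = 0`
    have h1 : a • (Submodule.Quotient.mk (Ideal.Quotient.mk J c) :
        (A ⧸ J) ⧸ (Ideal.ofList l • (⊤ : Submodule A (A ⧸ J)))) = 0 := by
      rw [← Submodule.Quotient.mk_smul, Submodule.Quotient.mk_eq_zero]
      have h2 : a • Ideal.Quotient.mk J c = - (y • Ideal.Quotient.mk J 1) := by
        have : Ideal.Quotient.mk J (y + c * a) = 0 := Ideal.Quotient.eq_zero_iff_mem.mpr hjJ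
        have e1 : ∀ (r b : A), r • Ideal.Quotient.mk J b = Ideal.Quotient.mk J (r * b) :=
          fun r b => by rw [Algebra.smul_def, Ideal.Quotient.algebraMap_eq, map_mul]
        rw [eq_neg_iff_add_eq_zero, e1, e1, ← map_add, mul_one, add_comm, mul_comm]
        exact this
      rw [h2]
      exact Submodule.neg_mem _ (Submodule.smul_mem_smul hy Submodule.mem_top)
    have h3 := hreg.2 (h1.trans (smul_zero a).symm)
    rw [Submodule.Quotient.mk_eq_zero] at h3
    obtain ⟨y', hy', hcy⟩ := mem_ofList_smul_top_quotient J _ c h3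
    have h4 : y + y' * a ∈ J ⊓ Ideal.ofList l := by
      refine ⟨?_, Submodule.add_mem _ hy (Ideal.mul_mem_right _ _ hy')⟩
      have : y + y' * a = (y + c * a) - (c - y') * a := by ring
      rw [this]
      exact Submodule.sub_mem _ hjJ (Ideal.mul_mem_right _ _ hcy)
    rw [ih'] at h4
    have h5 : y + c * a = (y + y' * a) + a * (c - y') := by ring
    rw [h5]
    refine Submodule.add_mem _ (Ideal.mul_mono_left le_sup_left h4) ?_
    exact Ideal.mul_mem_mul (Ideal.mem_sup_right (Ideal.mem_span_singleton_self a)) hcy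

end Inf

section Colon

variable (A : Type u) [CommRing A] [IsGorensteinLocalRing A] (n : ℕ) (hn : ringKrullDim A = n)

include hn in
/-- `(0 : I) + (xs) = ((xs) : I)` for `A/I` maximal Cohen–Macaulay over the Gorenstein local ring
`A` and `xs` an `A`-regular sequence. -/
theorem ann_sup_ofList_eq_colon (I : Ideal A) (hd : (n : ℕ∞) ≤ depth A (A ⧸ I)) (xs : List A)
    (hreg : IsWeaklyRegular A xs) :
    Submodule.annihilator I ⊔ Ideal.ofList xs =
      Submodule.colon (Ideal.ofList xs) (I : Set A) := by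
  apply le_antisymm
  · refine sup_le ?_ ?_
    · intro j hj
      rw [Submodule.mem_colon]
      intro i hi
      rw [Submodule.mem_annihilator.mp hj i hi]
      exact Submodule.zero_mem _
    · intro k hk
      rw [Submodule.mem_colon]
      intro i _
      rw [smul_eq_mul]
      exact Ideal.mul_mem_right _ _ hk
  · intro a ha
    rw [Submodule.mem_colon] at ha
    set K := Ideal.ofList xs with hK
    have hgood : GoodQuot A (A ⧸ I) K :=
      goodQuot_ofList (fun j hj => ext_subsingleton_of_le_depth A n hn (A ⧸ I) hd j hj) xs hreg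
    let φ₀ : A →ₗ[A] (A ⧸ K) := LinearMap.toSpanSingleton A (A ⧸ K) (Ideal.Quotient.mk K a)
    have hφ₀ : I ≤ LinearMap.ker φ₀ := by
      intro i hi
      rw [LinearMap.mem_ker, LinearMap.toSpanSingleton_apply, ← Ideal.Quotient.mk_eq_mk,
        ← Submodule.Quotient.mk_smul, Submodule.Quotient.mk_eq_zero, smul_eq_mul, mul_comm]
      exact ha i hi
    obtain ⟨ψ, hψ⟩ := hgood.2 (Submodule.liftQ I φ₀ hφ₀)
    set j := ψ (Ideal.Quotient.mk I 1) with hj
    have hjI : j ∈ Submodule.annihilator I := by
      rw [Submodule.mem_annihilator]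
      intro i hi
      rw [smul_eq_mul, mul_comm, ← smul_eq_mul, hj, ← map_smul, ← Ideal.Quotient.mk_eq_mk,
        ← Submodule.Quotient.mk_smul, smul_eq_mul, mul_one, Ideal.Quotient.mk_eq_mk,
        Ideal.Quotient.eq_zero_iff_mem.mpr hi, map_zero]
    have hja : Ideal.Quotient.mk K j = Ideal.Quotient.mk K a := by
      have := LinearMap.congr_fun hψ (Ideal.Quotient.mk I 1)
      rw [LinearMap.comp_apply] at this
      rw [← hj] at this
      change Ideal.Quotient.mk K j = _ at this
      rw [this, ← Ideal.Quotient.mk_eq_mk, Submodule.liftQ_apply,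
        LinearMap.toSpanSingleton_apply, one_smul]
    have h1 : a - j ∈ K := by
      rw [← Ideal.Quotient.eq]
      exact hja.symm
    have : a = j + (a - j) := by ring
    rw [this]
    exact Submodule.add_mem _ (Ideal.mem_sup_left hjI) (Ideal.mem_sup_right h1)

end Colon

section DepthQuot

/-- a Cohen–Macaulay quotient ring has depth equal to its dimension as a module -/
theorem le_depth_quotient_of_isCohenMacaulayLocalRing (A : Type u) [CommRing A]
    [IsNoetherianRing A] [IsLocalRing A] (I : Ideal A) [hCM : IsCohenMacaulayLocalRing (A ⧸ I)]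
    (n : ℕ) (h : ringKrullDim (A ⧸ I) = n) : (n : ℕ∞) ≤ depth A (A ⧸ I) := by
  haveI : IsLocalHom (algebraMap A (A ⧸ I)) :=
    IsLocalHom.of_surjective (Ideal.Quotient.mk I) Ideal.Quotient.mk_surjective
  rw [depth_eq_of_tower A (A ⧸ I) (A ⧸ I)]
  have h1 := hCM.supportDim_eq_depth
  rw [Module.supportDim_self_eq_ringKrullDim, h] at h1
  have h2 : ((n : ℕ∞) : WithBot ℕ∞) = ((depth (A ⧸ I) (A ⧸ I) : ℕ∞) : WithBot ℕ∞) := h1
  exact (WithBot.coe_injective h2).le

end DepthQuot

section Flat

variable (R A : Type u) [CommRing R] [IsRegularLocalRing R] [CommRing A]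
  [IsCohenMacaulayLocalRing A] [Algebra R A] [IsLocalHom (algebraMap R A)] [Module.Flat R A]
  (n : ℕ) (hn : ringKrullDim A = n)

include hn in
/-- A maximal Cohen–Macaulay cyclic module over a Cohen–Macaulay local ring which is flat over a
regular local ring is itself flat over the regular local ring. -/
theorem flat_quotient_of_le_depth (I : Ideal A) (hd : (n : ℕ∞) ≤ depth A (A ⧸ I)) :
    Module.Flat R (A ⧸ I) := by
  by_cases hI : I = ⊤
  · haveI : Subsingleton (A ⧸ I) := by
      rw [Submodule.Quotient.subsingleton_iff]; exact hI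
    infer_instance
  haveI : Nontrivial (A ⧸ I) := Ideal.Quotient.nontrivial_iff.mpr hI
  have hCM := cm_of_le_depth A n hn (A ⧸ I) hd
  refine Groth.Agent.Helper8.FlatReg.flat_of_isCohenMacaulayModule_of_supportDim_eq R A (A ⧸ I)
    hCM ?_
  obtain ⟨xs, hxs, hdimR, -⟩ := Groth.Agent.Helper8.FlatReg.exists_regular_generators R
  set 𝔫 : Ideal A := (maximalIdeal R).map (algebraMap R A) with h𝔫
  have h2 : Module.supportDim A (A ⧸ I) = n := by
    apply le_antisymm
    · rw [← hn]; exact Module.supportDim_le_ringKrullDim A _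
    · unfold IsCohenMacaulayModule at hCM
      rw [hCM]
      exact WithBot.coe_le_coe.mpr hd
  have h3 := Groth.Agent.Helper8.FlatReg.ringKrullDim_eq_add_of_flat R A
  rw [hn, ← h𝔫] at h3
  have h4 := supportDim_quotient_smul_top_le (A ⧸ I) 𝔫
  have h5 : Module.supportDim A (A ⧸ (𝔫 • (⊤ : Submodule A A))) = ringKrullDim (A ⧸ 𝔫) := by
    have heq : (𝔫 • (⊤ : Submodule A A)) = 𝔫 := by rw [smul_eq_mul, Ideal.mul_top]
    rw [Module.supportDim_eq_of_equiv (Submodule.quotEquivOfEq _ _ heq),
      Module.supportDim_quotient_eq_ringKrullDim]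
  rw [h5] at h4
  have hmem : ∀ x ∈ xs.map (algebraMap R A), x ∈ maximalIdeal A := by
    intro x hx
    obtain ⟨r, hr, rfl⟩ := List.mem_map.mp hx
    have hr' : r ∈ maximalIdeal R := by
      rw [← hxs]; exact Ideal.subset_span hr
    rw [mem_maximalIdeal, mem_nonunits_iff] at hr' ⊢
    exact fun h => hr' (IsLocalHom.map_nonunit r h)
  have h6 := supportDim_le_add_length (xs.map (algebraMap R A)) hmem (A ⧸ I)
  rw [← Ideal.map_ofList, hxs, ← h𝔫, List.length_map, h2] at h6
  rw [h2, hdimR]
  apply le_antisymm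
  · rw [add_comm]; exact h6
  · rw [h3, hdimR]
    exact add_le_add_right h4 _

end Flat

end Groth.Agent.Helper2.Gor
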