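import Mathlib
import Groth.Prelude
import Groth.Agent.Lib.Helper2.Gor.LinkCMGlobal
import Groth.Agent.Lib.Helper8.CplQuot2

/-!
# Linkage preserves the Cohen–Macaulay property: ideals of the ambient ring (helper2)
-/

set_option autoImplicit false
universe u

namespace Groth.Agent.Helper2.Gor

open LocCoh

variable {R : Type u} [CommRing R] (𝔠 I J : Ideal R)

lemma colon_bot_map_mk (h𝔠J : 𝔠 ≤ J) (hIJ : 𝔠.colon (I : Set R) = J) :
    (⊥ : Ideal (R ⧸ 𝔠)).colon ((I.map (Ideal.Quotient.mk 𝔠) : Ideal (R ⧸ 𝔠)) : Set (R ⧸ 𝔠)) =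
      J.map (Ideal.Quotient.mk 𝔠) := by
  ext x
  obtain ⟨r, rfl⟩ := Ideal.Quotient.mk_surjective x
  rw [Submodule.mem_colon]
  constructor
  · intro h
    apply Ideal.mem_map_of_mem
    rw [← hIJ, Submodule.mem_colon]
    intro y hy
    have := h (Ideal.Quotient.mk 𝔠 y) (Ideal.mem_map_of_mem _ hy)
    rw [smul_eq_mul, Submodule.mem_bot, ← map_mul, Ideal.Quotient.eq_zero_iff_mem] at this
    exact this
  · intro h y hy
    obtain ⟨j, hj, hjr⟩ := (Ideal.mem_map_iff_of_surjective _ Ideal.Quotient.mk_surjective).mp h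
    obtain ⟨i, hi, rfl⟩ := (Ideal.mem_map_iff_of_surjective _ Ideal.Quotient.mk_surjective).mp hy
    rw [smul_eq_mul, Submodule.mem_bot, ← hjr, ← map_mul, Ideal.Quotient.eq_zero_iff_mem]
    rw [← hIJ, Submodule.mem_colon] at hj
    exact hj i hi

/-- **Linkage preserves the Cohen–Macaulay property** (ideals of the ambient ring). -/
theorem isCohenMacaulayRing_quotient_of_linked' [hG : IsGorensteinRing (R ⧸ 𝔠)]
    (hIJ : 𝔠.colon (I : Set R) = J) (hJI : 𝔠.colon (J : Set R) = I)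
    (hCM : IsCohenMacaulayRing (R ⧸ I)) : IsCohenMacaulayRing (R ⧸ J) := by
  have h𝔠J : 𝔠 ≤ J := by rw [← hIJ]; exact Ideal.le_colon
  have h𝔠I : 𝔠 ≤ I := by rw [← hJI]; exact Ideal.le_colon
  have h1 := colon_bot_map_mk 𝔠 I J h𝔠J hIJ
  have h2 := colon_bot_map_mk 𝔠 J I h𝔠I hJI
  have h3 : IsCohenMacaulayRing ((R ⧸ 𝔠) ⧸ I.map (Ideal.Quotient.mk 𝔠)) :=
    Groth.Agent.Helper8.CplQuot.isCohenMacaulayRing_of_ringEquiv
      (DoubleQuot.quotQuotEquivQuotOfLE h𝔠I).symm hCM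
  have h4 := isCohenMacaulayRing_quotient_of_linked (R ⧸ 𝔠) _ _ h1 h2 h3
  exact Groth.Agent.Helper8.CplQuot.isCohenMacaulayRing_of_ringEquiv
    (DoubleQuot.quotQuotEquivQuotOfLE h𝔠J) h4

end Groth.Agent.Helper2.Gor
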