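import Mathlib
import Groth.Prelude
import Groth.Agent.Lib.Helper2.Gor.DoubleAnn

/-!
# Double annihilators in Gorenstein rings, locally at minimal primes; `𝔠 : (𝔠 : I) = I` (helper2)
-/

set_option autoImplicit false
universe u

namespace Groth.Agent.Helper2.Gor

open IsLocalRing LocCoh

/-- In a Gorenstein ring, an element of `ann (ann Ī)` lies in `Ī` locally at every minimal prime. -/
theorem exists_notMem_mul_mem_of_mem_annihilator_annihilator (S : Type u) [CommRing S]
    [hS : IsGorensteinRing S] (Ī : Ideal S) (x : S)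
    (hx : x ∈ (Submodule.annihilator (Submodule.annihilator Ī : Ideal S) : Ideal S))
    (P : Ideal S) (hP : P ∈ minimalPrimes S) : ∃ s, s ∉ P ∧ s * x ∈ Ī := by
  classical
  haveI : IsNoetherianRing S := inferInstance
  haveI hPp : P.IsPrime := hP.1.1
  set B := Localization.AtPrime P with hB
  haveI hG : IsGorensteinLocalRing B := hS.isGorensteinLocalRing_localization P
  haveI : IsNoetherianRing B := inferInstance
  have hdim : ringKrullDim B = 0 := by
    rw [IsLocalization.AtPrime.ringKrullDim_eq_height P B]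
    have : P.height = 0 := Ideal.height_eq_zero_iff.mpr hP
    rw [this]
    rfl
  haveI : Ring.KrullDimLE 0 B := (Ring.krullDimLE_iff).mpr hdim.le
  haveI : IsArtinianRing B := isArtinianRing_iff_krullDimLE_zero.mpr inferInstance
  set 𝔞 : Ideal B := Ī.map (algebraMap S B) with h𝔞
  obtain ⟨G, hG'⟩ := (IsNoetherian.noetherian Ī : Ī.FG)
  have hmem : algebraMap S B x ∈
      (Submodule.annihilator (Submodule.annihilator 𝔞 : Ideal B) : Ideal B) := by
    rw [Submodule.mem_annihilator]
    intro y' hy'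
    obtain ⟨y, s, rfl⟩ := IsLocalization.exists_mk'_eq P.primeCompl y'
    rw [Submodule.mem_annihilator] at hy'
    have hgen : ∀ i ∈ G, ∃ t : S, t ∉ P ∧ t * (y * i) = 0 := by
      intro i hi
      have hiI : i ∈ Ī := by rw [← hG']; exact Submodule.subset_span hi
      have h1 := hy' (algebraMap S B i) (Ideal.mem_map_of_mem _ hiI)
      rw [smul_eq_mul, ← IsLocalization.mk'_one (M := P.primeCompl) B i,
        ← IsLocalization.mk'_mul, IsLocalization.mk'_eq_zero_iff] at h1
      obtain ⟨m, hm⟩ := h1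
      exact ⟨m.1, m.2, hm⟩
    choose! t ht using hgen
    have htP : (∏ i ∈ G, t i) ∉ P := by
      rw [Ideal.IsPrime.prod_mem_iff]
      rintro ⟨i, hi, hti⟩
      exact (ht i hi).1 hti
    have hty : (∏ i ∈ G, t i) * y ∈ (Submodule.annihilator Ī : Ideal S) := by
      rw [Submodule.mem_annihilator]
      intro i hi
      rw [← hG'] at hi
      refine Submodule.span_induction (p := fun i _ => ((∏ j ∈ G, t j) * y) • i = 0) ?_ ?_ ?_ ?_ hi
      · intro i hi
        have hi' : i ∈ G := hi
        rw [smul_eq_mul, ← Finset.mul_prod_erase G t hi']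
        have := (ht i hi').2
        have h2 : t i * (∏ j ∈ G.erase i, t j) * y * i = (∏ j ∈ G.erase i, t j) * (t i * (y * i)) := by
          ring
        rw [h2, this, mul_zero]
      · simp
      · intro a b _ _ ha hb
        rw [smul_add, ha, hb, add_zero]
      · intro a b _ hb
        rw [smul_eq_mul] at hb ⊢
        rw [smul_eq_mul]
        have : (∏ j ∈ G, t j) * y * (a * b) = a * ((∏ j ∈ G, t j) * y * b) := by ring
        rw [this, hb, mul_zero]
    have hx0 : x * ((∏ i ∈ G, t i) * y) = 0 := by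
      have := (Submodule.mem_annihilator.mp hx) _ hty
      rwa [smul_eq_mul] at this
    rw [smul_eq_mul, ← IsLocalization.mk'_one (M := P.primeCompl) B x, ← IsLocalization.mk'_mul,
      IsLocalization.mk'_eq_zero_iff]
    refine ⟨⟨∏ i ∈ G, t i, htP⟩, ?_⟩
    show (∏ i ∈ G, t i) * (x * y) = 0
    rw [← hx0]
    ring
  rw [Groth.Agent.Helper2.Gor.annihilator_annihilator_eq B 𝔞, h𝔞,
    IsLocalization.mem_map_algebraMap_iff P.primeCompl B] at hmem
  obtain ⟨⟨a, s⟩, has⟩ := hmem
  rw [← map_mul, IsLocalization.eq_iff_exists P.primeCompl B] at has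
  obtain ⟨c, hc⟩ := has
  refine ⟨c.1 * s.1, ?_, ?_⟩
  · exact (P.primeCompl.mul_mem c.2 s.2)
  · have h1 : c.1 * s.1 * x = c.1 * (x * s.1) := by ring
    rw [h1, hc]
    exact Ideal.mul_mem_left _ _ a.2

/-- **Double linkage**: `𝔠 : (𝔠 : I) = I` when `R ⧸ 𝔠` is Gorenstein and the associated primes of
`R ⧸ I` are minimal over `𝔠`. -/
theorem colon_colon_eq_self {R : Type u} [CommRing R] [IsNoetherianRing R] (𝔠 I : Ideal R)
    [hS : IsGorensteinRing (R ⧸ 𝔠)] (h𝔠I : 𝔠 ≤ I)
    (hass : ∀ P ∈ associatedPrimes R (R ⧸ I), P ∈ 𝔠.minimalPrimes) :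
    𝔠.colon ((𝔠.colon (I : Set R) : Ideal R) : Set R) = I := by
  apply le_antisymm
  · intro x hx
    by_contra hxI
    have hne : (Ideal.Quotient.mk I x : R ⧸ I) ≠ 0 := by
      rwa [Ne, Ideal.Quotient.eq_zero_iff_mem]
    obtain ⟨P, hPass, hle⟩ :=
      exists_le_isAssociatedPrime_of_isNoetherianRing R (Ideal.Quotient.mk I x : R ⧸ I) hne
    have hPmin := hass P hPass
    rw [Ideal.minimalPrimes_eq_comap] at hPmin
    obtain ⟨Q, hQ, rfl⟩ := hPmin
    have hxann : Ideal.Quotient.mk 𝔠 x ∈ (Submodule.annihilator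
        (Submodule.annihilator (I.map (Ideal.Quotient.mk 𝔠)) : Ideal (R ⧸ 𝔠)) : Ideal (R ⧸ 𝔠)) := by
      rw [Submodule.mem_annihilator]
      intro ybar hy
      obtain ⟨y, rfl⟩ := Ideal.Quotient.mk_surjective ybar
      rw [Submodule.mem_annihilator] at hy
      have hyc : y ∈ 𝔠.colon (I : Set R) := by
        rw [Submodule.mem_colon]
        intro i hi
        have := hy (Ideal.Quotient.mk 𝔠 i) (Ideal.mem_map_of_mem _ hi)
        rw [smul_eq_mul, ← map_mul, Ideal.Quotient.eq_zero_iff_mem] at this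
        exact this
      rw [Submodule.mem_colon] at hx
      have := hx y hyc
      rw [smul_eq_mul] at this ⊢
      rw [← map_mul, Ideal.Quotient.eq_zero_iff_mem]
      exact this
    obtain ⟨sbar, hsQ, hs⟩ := exists_notMem_mul_mem_of_mem_annihilator_annihilator (R ⧸ 𝔠)
      (I.map (Ideal.Quotient.mk 𝔠)) _ hxann Q hQ
    obtain ⟨s, rfl⟩ := Ideal.Quotient.mk_surjective sbar
    apply hsQ
    have hsx : s * x ∈ I := by
      rw [← map_mul] at hs
      have h1 : s * x ∈ (I.map (Ideal.Quotient.mk 𝔠)).comap (Ideal.Quotient.mk 𝔠) := hs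
      rw [Ideal.comap_map_of_surjective _ Ideal.Quotient.mk_surjective, ← RingHom.ker_eq_comap_bot,
        Ideal.mk_ker, sup_eq_left.mpr h𝔠I] at h1
      exact h1
    have hsP : s ∈ Ideal.comap (Ideal.Quotient.mk 𝔠) Q := by
      apply hle
      rw [Submodule.mem_colon_singleton, Submodule.mem_bot]
      have : s • (Ideal.Quotient.mk I x : R ⧸ I) = Ideal.Quotient.mk I (s * x) := by
        rw [Algebra.smul_def]; rfl
      rw [this, Ideal.Quotient.eq_zero_iff_mem]
      exact hsx
    exact hsP
  · intro i hi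
    rw [Submodule.mem_colon]
    intro y hy
    have hy' : y ∈ 𝔠.colon (I : Set R) := hy
    rw [Submodule.mem_colon] at hy'
    have := hy' i hi
    rw [smul_eq_mul] at this ⊢
    rwa [mul_comm]

end Groth.Agent.Helper2.Gor
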