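import Mathlib
import Groth.Prelude
import Groth.Agent.Lib.Helper2.Gor.AnnGorGlobal
import Groth.Agent.Lib.Helper2.Gor.LinkCMQuot
import Groth.Agent.Lib.Helper2.Gor.CIGor
import Groth.Agent.Lib.Helper2.Gor.Linkage
import Groth.Agent.Lib.Helper2.CM.HomogUnmixed
import Groth.Agent.Lib.Helper2.CM.Colon

/-!
# The link of an almost complete intersection is Gorenstein (helper2)
-/

set_option autoImplicit false
universe u

namespace Groth.Agent.Helper2.Gor

open LocCoh Groth.Agent.Helper2.CM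

section General

variable {R : Type u} [CommRing R] (𝔠 I : Ideal R) (f : R)

/-- If `R/𝔠` is Gorenstein, `I = 𝔠 + (f)` is linked to `J = 𝔠 : I` and `R/I` is Cohen–Macaulay, then
`R/J` is Gorenstein. -/
theorem isGorensteinRing_quotient_colon_of_aci [hG : IsGorensteinRing (R ⧸ 𝔠)]
    (hIf : I = 𝔠 ⊔ Ideal.span {f})
    (hII : 𝔠.colon ((𝔠.colon (I : Set R) : Ideal R) : Set R) = I)
    (hCM : IsCohenMacaulayRing (R ⧸ I)) : IsGorensteinRing (R ⧸ 𝔠.colon (I : Set R)) := by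
  have h𝔠J : 𝔠 ≤ 𝔠.colon (I : Set R) := Ideal.le_colon
  have h𝔠I : 𝔠 ≤ I := by rw [hIf]; exact le_sup_left
  have h1 := colon_bot_map_mk 𝔠 I (𝔠.colon (I : Set R)) h𝔠J rfl
  have h2 := colon_bot_map_mk 𝔠 (𝔠.colon (I : Set R)) I h𝔠I hII
  have hspan : I.map (Ideal.Quotient.mk 𝔠) = Ideal.span {Ideal.Quotient.mk 𝔠 f} := by
    rw [hIf, Ideal.map_sup, Ideal.map_span, Set.image_singleton, Ideal.map_quotient_self,
      bot_sup_eq]
  have h3 : IsCohenMacaulayRing ((R ⧸ 𝔠) ⧸ I.map (Ideal.Quotient.mk 𝔠)) :=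
    Groth.Agent.Helper8.CplQuot.isCohenMacaulayRing_of_ringEquiv
      (DoubleQuot.quotQuotEquivQuotOfLE h𝔠I).symm hCM
  rw [hspan] at h1 h2 h3
  have h4 := isGorensteinRing_quotient_ann (R ⧸ 𝔠) (Ideal.Quotient.mk 𝔠 f) _ h1 h2 h3
  exact Groth.Agent.Helper8.GorFlat.isGorensteinRing_of_ringEquiv
    (DoubleQuot.quotQuotEquivQuotOfLE h𝔠J) h4

end General

section Poly

variable {n : ℕ} {K : Type u} [Field K]

/-- in a polynomial ring, associated primes of a homogeneous Cohen–Macaulay quotient of the same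
height as a homogeneous Cohen–Macaulay `𝔠 ≤ I` are minimal over `𝔠` -/
theorem mem_minimalPrimes_of_mem_associatedPrimes_of_homog
    (𝔠 I : Ideal (MvPolynomial (Fin (n + 1)) K))
    (h𝔠 : 𝔠.IsHomogeneous (GrSyz.stdGr K (Fin (n + 1))))
    (hI : I.IsHomogeneous (GrSyz.stdGr K (Fin (n + 1))))
    [IsCohenMacaulayRing (MvPolynomial (Fin (n + 1)) K ⧸ 𝔠)]
    [IsCohenMacaulayRing (MvPolynomial (Fin (n + 1)) K ⧸ I)] (c : ℕ)
    (h𝔠c : 𝔠.height = c) (hIc : I.height = c) (h𝔠I : 𝔠 ≤ I)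
    (P : Ideal (MvPolynomial (Fin (n + 1)) K))
    (hP : P ∈ associatedPrimes (MvPolynomial (Fin (n + 1)) K) (MvPolynomial (Fin (n + 1)) K ⧸ I)) :
    P ∈ 𝔠.minimalPrimes := by
  haveI hPp : P.IsPrime := hP.isPrime
  have hPh : P.height = c := by
    rw [height_eq_of_mem_associatedPrimes_of_homog I hI P hP, hIc]
  have hIP : I ≤ P := by
    intro x hx
    have h1 : x ∈ Module.annihilator (MvPolynomial (Fin (n + 1)) K)
        (MvPolynomial (Fin (n + 1)) K ⧸ I) := by
      rw [Ideal.annihilator_quotient]; exact hx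
    have h2 : Module.annihilator (MvPolynomial (Fin (n + 1)) K)
        (MvPolynomial (Fin (n + 1)) K ⧸ I) ≤ P := by
      rw [← Submodule.annihilator_top]
      exact IsAssociatedPrime.annihilator_le hP
    exact h2 h1
  obtain ⟨Q, hQ, hQP⟩ := Ideal.exists_minimalPrimes_le (h𝔠I.trans hIP)
  haveI hQp : Q.IsPrime := hQ.1.1
  have hQass : Q ∈ associatedPrimes (MvPolynomial (Fin (n + 1)) K)
      (MvPolynomial (Fin (n + 1)) K ⧸ 𝔠) := by
    apply Module.associatedPrimes.minimalPrimes_annihilator_subset_associatedPrimes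
    rwa [Ideal.annihilator_quotient]
  have hQh : Q.height = c := by
    rw [height_eq_of_mem_associatedPrimes_of_homog 𝔠 h𝔠 Q hQass, h𝔠c]
  have hQeq : Q = P := by
    haveI : Q.FiniteHeight := Q.finiteHeight_iff.mpr (Or.inr (by
      rw [hQh]; exact ENat.natCast_ne_top c))
    exact Ideal.eq_of_le_of_height_le (I := Q) (J := P) hQP (by rw [hQh, hPh])
  rw [← hQeq]
  exact hQ

end Poly

end Groth.Agent.Helper2.Gor
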