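import Mathlib
import Groth.Prelude
import Groth.Agent.Lib.Helper2.Gor.ExtCoker
import Groth.Agent.Lib.Helper2.Gor.AnnGorGlobal

/-!
# The sum of two geometrically linked ideals is Gorenstein: the local statement (helper2)

Let `S` be a Gorenstein local ring of dimension `n`, `a₁`, `a₂` ideals with `0 : a₁ = a₂`,
`0 : a₂ = a₁`, `a₁ ∩ a₂ = 0`, `S/a₁` and `S/a₂` maximal Cohen–Macaulay and `a₁ + a₂ ≠ S`. Then
`S/(a₁ + a₂)` is a Gorenstein local ring of dimension `n - 1`.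
-/

set_option autoImplicit false
universe u

namespace Groth.Agent.Helper2.Gor

open LocCoh IsLocalRing CategoryTheory Abelian InjHull Groth.Agent.Helper8.LD
  Groth.Agent.Helper8.CanMod Groth.Agent.Helper8.Murthy Groth.Agent.Helper8.Depth
  Groth.Agent.Helper8.ABS

section Ses

variable {S : Type u} [CommRing S] (a₁ a₂ : Ideal S)

/-- the diagonal `S → S/a₁ × S/a₂` -/
noncomputable def diagQ : S →ₗ[S] (S ⧸ a₁) × (S ⧸ a₂) :=
  (Submodule.mkQ a₁).prod (Submodule.mkQ a₂)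

/-- the difference `S/a₁ × S/a₂ → S/(a₁ + a₂)` -/
noncomputable def diffQ : (S ⧸ a₁) × (S ⧸ a₂) →ₗ[S] S ⧸ (a₁ ⊔ a₂) :=
  (Submodule.mapQ a₁ (a₁ ⊔ a₂) LinearMap.id le_sup_left).coprod
    (-(Submodule.mapQ a₂ (a₁ ⊔ a₂) LinearMap.id le_sup_right))

lemma diagQ_apply (x : S) :
    diagQ a₁ a₂ x = (Submodule.Quotient.mk x, Submodule.Quotient.mk x) := rfl

lemma diffQ_mk (y z : S) :
    diffQ a₁ a₂ (Submodule.Quotient.mk y, Submodule.Quotient.mk z) =
      Submodule.Quotient.mk (y - z) := by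
  unfold diffQ
  rw [LinearMap.coprod_apply, LinearMap.neg_apply, Submodule.mapQ_apply, Submodule.mapQ_apply,
    LinearMap.id_apply, LinearMap.id_apply, ← sub_eq_add_neg, ← Submodule.Quotient.mk_sub]

lemma diagQ_injective (hinf : a₁ ⊓ a₂ = ⊥) : Function.Injective (diagQ a₁ a₂) := by
  rw [injective_iff_map_eq_zero]
  intro x hx
  rw [diagQ_apply, Prod.mk_eq_zero, Submodule.Quotient.mk_eq_zero,
    Submodule.Quotient.mk_eq_zero] at hx
  have : x ∈ a₁ ⊓ a₂ := ⟨hx.1, hx.2⟩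
  rw [hinf] at this
  exact this

lemma diffQ_surjective : Function.Surjective (diffQ a₁ a₂) := by
  intro c
  obtain ⟨x, rfl⟩ := Submodule.Quotient.mk_surjective _ c
  refine ⟨(Submodule.Quotient.mk x, Submodule.Quotient.mk 0), ?_⟩
  rw [diffQ_mk, sub_zero]

lemma diag_diff_exact : Function.Exact (diagQ a₁ a₂) (diffQ a₁ a₂) := by
  rintro ⟨y, z⟩
  obtain ⟨y, rfl⟩ := Submodule.Quotient.mk_surjective _ y
  obtain ⟨z, rfl⟩ := Submodule.Quotient.mk_surjective _ z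
  rw [diffQ_mk, Submodule.Quotient.mk_eq_zero]
  constructor
  · intro h
    obtain ⟨u, hu, v, hv, huv⟩ := Submodule.mem_sup.mp h
    refine ⟨y - u, ?_⟩
    rw [diagQ_apply, Prod.mk.injEq]
    constructor
    · rw [Submodule.Quotient.eq]
      have : y - u - y = -u := by ring
      rw [this]
      exact a₁.neg_mem hu
    · rw [Submodule.Quotient.eq]
      have : y - u - z = v := by
        have h1 : y - u - z = (y - z) - u := by ring
        rw [h1, ← huv]; ring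
      rw [this]
      exact hv
  · rintro ⟨x, hx⟩
    rw [diagQ_apply, Prod.mk.injEq, Submodule.Quotient.eq, Submodule.Quotient.eq] at hx
    have : y - z = -(x - y) + (x - z) := by ring
    rw [this]
    exact Submodule.add_mem_sup (a₁.neg_mem hx.1) hx.2

end Ses

section ExtComp

variable {S : Type u} [CommRing S] (a₁ a₂ : Ideal S)

/-- the image of `Hom(S/a₁ × S/a₂, S) → Hom(S, S) ≅ S` is `a₁ + a₂` -/
lemma map_range_lcomp_diagQ (h12 : (⊥ : Ideal S).colon (a₁ : Set S) = a₂)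
    (h21 : (⊥ : Ideal S).colon (a₂ : Set S) = a₁) :
    (LinearMap.range (LinearMap.lcomp S S (diagQ a₁ a₂))).map
      (LinearMap.ringLmapEquivSelf S S S).toLinearMap = a₁ ⊔ a₂ := by
  ext x
  rw [Submodule.mem_map]
  constructor
  · rintro ⟨_, ⟨h, rfl⟩, rfl⟩
    change (h.comp (diagQ a₁ a₂)) 1 ∈ a₁ ⊔ a₂
    rw [LinearMap.comp_apply, diagQ_apply]
    have hsplit : ((Submodule.Quotient.mk 1 : S ⧸ a₁), (Submodule.Quotient.mk 1 : S ⧸ a₂)) =
        ((Submodule.Quotient.mk 1 : S ⧸ a₁), (0 : S ⧸ a₂)) +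
          ((0 : S ⧸ a₁), (Submodule.Quotient.mk 1 : S ⧸ a₂)) := by
      rw [Prod.mk_add_mk, add_zero, zero_add]
    rw [hsplit, map_add, add_comm]
    refine Submodule.add_mem_sup ?_ ?_
    · have key : h ((0 : S ⧸ a₁), (Submodule.Quotient.mk 1 : S ⧸ a₂)) ∈
          (⊥ : Ideal S).colon (a₂ : Set S) := by
        rw [Submodule.mem_colon]
        intro y hy
        rw [Submodule.mem_bot, smul_eq_mul, mul_comm, ← smul_eq_mul, ← map_smul, Prod.smul_mk,
          smul_zero, ← Submodule.Quotient.mk_smul, smul_eq_mul, mul_one,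
          (Submodule.Quotient.mk_eq_zero a₂).mpr hy]
        exact map_zero h
      rwa [h21] at key
    · have key : h ((Submodule.Quotient.mk 1 : S ⧸ a₁), (0 : S ⧸ a₂)) ∈
          (⊥ : Ideal S).colon (a₁ : Set S) := by
        rw [Submodule.mem_colon]
        intro y hy
        rw [Submodule.mem_bot, smul_eq_mul, mul_comm, ← smul_eq_mul, ← map_smul, Prod.smul_mk,
          smul_zero, ← Submodule.Quotient.mk_smul, smul_eq_mul, mul_one,
          (Submodule.Quotient.mk_eq_zero a₁).mpr hy]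
        exact map_zero h
      rwa [h12] at key
  · intro hx
    obtain ⟨u, hu, v, hv, rfl⟩ := Submodule.mem_sup.mp hx
    have hu' : a₂ ≤ LinearMap.ker (LinearMap.toSpanSingleton S S u) := by
      intro z hz
      rw [LinearMap.mem_ker, LinearMap.toSpanSingleton_apply, smul_eq_mul]
      rw [← h21, Submodule.mem_colon] at hu
      have := hu z hz
      rw [Submodule.mem_bot, smul_eq_mul] at this
      rw [mul_comm]; exact this
    have hv' : a₁ ≤ LinearMap.ker (LinearMap.toSpanSingleton S S v) := by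
      intro z hz
      rw [LinearMap.mem_ker, LinearMap.toSpanSingleton_apply, smul_eq_mul]
      rw [← h12, Submodule.mem_colon] at hv
      have := hv z hz
      rw [Submodule.mem_bot, smul_eq_mul] at this
      rw [mul_comm]; exact this
    refine ⟨((Submodule.liftQ a₁ _ hv').coprod (Submodule.liftQ a₂ _ hu')).comp (diagQ a₁ a₂),
      ⟨(Submodule.liftQ a₁ _ hv').coprod (Submodule.liftQ a₂ _ hu'), rfl⟩, ?_⟩
    change (((Submodule.liftQ a₁ _ hv').coprod (Submodule.liftQ a₂ _ hu')).comp (diagQ a₁ a₂)) 1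
      = u + v
    rw [LinearMap.comp_apply, diagQ_apply, LinearMap.coprod_apply, Submodule.liftQ_apply,
      Submodule.liftQ_apply, LinearMap.toSpanSingleton_apply, LinearMap.toSpanSingleton_apply,
      one_smul, one_smul, add_comm]

/-- `Ext¹(S/(a₁+a₂), S) ≃ S/(a₁+a₂)` for geometrically linked maximal Cohen–Macaulay quotients. -/
theorem nonempty_ext_one_quotient_sup_equiv (h12 : (⊥ : Ideal S).colon (a₁ : Set S) = a₂)
    (h21 : (⊥ : Ideal S).colon (a₂ : Set S) = a₁) (hinf : a₁ ⊓ a₂ = ⊥)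
    (hext : Subsingleton (Ext (ModuleCat.of S ((S ⧸ a₁) × (S ⧸ a₂))) (ModuleCat.of S S) 1)) :
    Nonempty (Ext (ModuleCat.of S (S ⧸ (a₁ ⊔ a₂))) (ModuleCat.of S S) 1 ≃ₗ[S]
      (S ⧸ (a₁ ⊔ a₂))) := by
  obtain ⟨e⟩ := nonempty_ext_one_equiv_coker (diagQ a₁ a₂) (diffQ a₁ a₂)
    (diagQ_injective a₁ a₂ hinf) (diffQ_surjective a₁ a₂) (diag_diff_exact a₁ a₂) S hext
  exact ⟨e.trans (Submodule.Quotient.equiv _ _ (LinearMap.ringLmapEquivSelf S S S)
    (map_range_lcomp_diagQ a₁ a₂ h12 h21))⟩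

end ExtComp

section CMQuot

variable (S : Type u) [CommRing S] [IsNoetherianRing S] [IsLocalRing S]

/-- a quotient whose depth is at least its dimension is a Cohen–Macaulay local ring -/
theorem cmLocalRing_quotient_of_dim_le_depth (J : Ideal S) (hJ : J ≠ ⊤) (m : ℕ)
    (hdim : ringKrullDim (S ⧸ J) ≤ m) (hd : (m : ℕ∞) ≤ depth S (S ⧸ J)) :
    IsCohenMacaulayLocalRing (S ⧸ J) ∧ ringKrullDim (S ⧸ J) = m := by
  haveI : Nontrivial (S ⧸ J) := Ideal.Quotient.nontrivial_iff.mpr hJ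
  have hJm : J ≤ maximalIdeal S := le_maximalIdeal hJ
  haveI := Groth.Agent.Helper8.GorFlat.isLocalRing_quot J hJm
  haveI := Groth.Agent.Helper8.GorFlat.isLocalHom_mk J hJm
  have h2 : depth S (S ⧸ J) = depth (S ⧸ J) (S ⧸ J) := depth_eq_of_tower S (S ⧸ J) (S ⧸ J)
  have h3 : ((depth S (S ⧸ J) : ℕ∞) : WithBot ℕ∞) ≤ Module.supportDim S (S ⧸ J) :=
    depth_le_supportDim
  rw [Module.supportDim_quotient_eq_ringKrullDim] at h3
  have h4 : ((m : ℕ∞) : WithBot ℕ∞) ≤ ((depth S (S ⧸ J) : ℕ∞) : WithBot ℕ∞) :=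
    WithBot.coe_le_coe.mpr hd
  have h5 : ringKrullDim (S ⧸ J) = m := le_antisymm hdim (h4.trans h3)
  have h6 : ((depth S (S ⧸ J) : ℕ∞) : WithBot ℕ∞) = ringKrullDim (S ⧸ J) :=
    le_antisymm h3 (h5 ▸ h4)
  refine ⟨{ supportDim_eq_depth := ?_ }, h5⟩
  rw [Module.supportDim_self_eq_ringKrullDim, ← h6, h2]

end CMQuot

section Main

variable (S : Type u) [CommRing S] [hG : IsGorensteinLocalRing S] (n : ℕ)
  (hn : ringKrullDim S = n) (a₁ a₂ : Ideal S)

theorem exists_isSMulRegular_mem_sup (h12 : (⊥ : Ideal S).colon (a₁ : Set S) = a₂)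
    (h21 : (⊥ : Ideal S).colon (a₂ : Set S) = a₁) (hinf : a₁ ⊓ a₂ = ⊥) :
    ∃ x ∈ a₁ ⊔ a₂, IsSMulRegular S x := by
  by_contra hcon
  push Not at hcon
  obtain ⟨p, hp, hle⟩ := exists_le_associatedPrime_of_forall_not_isSMulRegular (M := S)
    (a₁ ⊔ a₂) hcon
  obtain ⟨hpp, b, hb⟩ := (isAssociatedPrime_iff (R := S) (M := S)).mp hp
  have hkill : ∀ y ∈ a₁ ⊔ a₂, y * b = 0 := by
    intro y hy
    have := hle hy
    rw [hb, Submodule.mem_colon_singleton, smul_eq_mul, Submodule.mem_bot] at this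
    exact this
  have hb2 : b ∈ a₂ := by
    rw [← h12, Submodule.mem_colon]
    intro y hy
    rw [Submodule.mem_bot, smul_eq_mul, mul_comm]
    exact hkill y (Ideal.mem_sup_left hy)
  have hb1 : b ∈ a₁ := by
    rw [← h21, Submodule.mem_colon]
    intro y hy
    rw [Submodule.mem_bot, smul_eq_mul, mul_comm]
    exact hkill y (Ideal.mem_sup_right hy)
  have hb0 : b = 0 := by
    have : b ∈ a₁ ⊓ a₂ := ⟨hb1, hb2⟩
    rwa [hinf, Submodule.mem_bot] at this
  apply hpp.ne_top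
  rw [hb, hb0, Ideal.eq_top_iff_one, Submodule.mem_colon_singleton, smul_zero]
  exact Submodule.zero_mem _

include hn in
theorem cm_and_dim_quotient_sup (h12 : (⊥ : Ideal S).colon (a₁ : Set S) = a₂)
    (h21 : (⊥ : Ideal S).colon (a₂ : Set S) = a₁) (hinf : a₁ ⊓ a₂ = ⊥)
    (hd1 : (n : ℕ∞) ≤ depth S (S ⧸ a₁)) (hd2 : (n : ℕ∞) ≤ depth S (S ⧸ a₂))
    (htop : a₁ ⊔ a₂ ≠ ⊤) :
    ∃ m : ℕ, m + 1 = n ∧ IsCohenMacaulayLocalRing (S ⧸ (a₁ ⊔ a₂)) ∧
      ringKrullDim (S ⧸ (a₁ ⊔ a₂)) = m := by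
  obtain ⟨x, hx, hreg⟩ := exists_isSMulRegular_mem_sup S a₁ a₂ h12 h21 hinf
  have hxm : x ∈ maximalIdeal S := le_maximalIdeal htop hx
  have hdimx := ringKrullDim_quotient_span_singleton_succ_eq_ringKrullDim hreg hxm
  have hspanm : Ideal.span {x} ≤ maximalIdeal S := (Ideal.span_singleton_le_iff_mem _).mpr hxm
  haveI := Groth.Agent.Helper8.GorFlat.isLocalRing_quot (Ideal.span {x}) hspanm
  obtain ⟨m, hm⟩ := Groth.Agent.Helper8.GorFlat.exists_dim_eq (S ⧸ Ideal.span {x})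
  rw [hm, hn] at hdimx
  have hmn : m + 1 = n := by exact_mod_cast hdimx
  refine ⟨m, hmn, ?_⟩
  have hle : Ideal.span {x} ≤ a₁ ⊔ a₂ := (Ideal.span_singleton_le_iff_mem _).mpr hx
  have hdimC : ringKrullDim (S ⧸ (a₁ ⊔ a₂)) ≤ m := by
    rw [← hm]
    exact ringKrullDim_le_of_surjective (Ideal.Quotient.factor hle)
      (Ideal.Quotient.factor_surjective hle)
  have hdepth : (m : ℕ∞) ≤ depth S (S ⧸ (a₁ ⊔ a₂)) := by
    have h1 := idealDepth_right_ge (maximalIdeal S) (diagQ a₁ a₂) (diffQ a₁ a₂)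
      (diagQ_injective a₁ a₂ hinf) (diffQ_surjective a₁ a₂) (diag_diff_exact a₁ a₂)
    refine le_trans (le_min ?_ ?_) h1
    · refine le_trans (le_min ?_ ?_) (idealDepth_prod_ge (maximalIdeal S))
      · refine le_trans ?_ hd1
        exact_mod_cast (by omega : m ≤ n)
      · refine le_trans ?_ hd2
        exact_mod_cast (by omega : m ≤ n)
    · have : idealDepth (maximalIdeal S) S = (n : ℕ∞) := depth_self_eq S n hn
      rw [this, ← hmn]
      have h2 : ((m + 1 : ℕ) : ℕ∞) - 1 = m := by norm_cast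
      rw [h2]
  exact cmLocalRing_quotient_of_dim_le_depth S _ htop m hdimC hdepth

include hn in
/-- **The sum of two geometrically linked ideals with maximal Cohen–Macaulay quotients is
Gorenstein of dimension one less.** -/
theorem isGorensteinLocalRing_quotient_sup (h12 : (⊥ : Ideal S).colon (a₁ : Set S) = a₂)
    (h21 : (⊥ : Ideal S).colon (a₂ : Set S) = a₁) (hinf : a₁ ⊓ a₂ = ⊥)
    (hd1 : (n : ℕ∞) ≤ depth S (S ⧸ a₁)) (hd2 : (n : ℕ∞) ≤ depth S (S ⧸ a₂))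
    (htop : a₁ ⊔ a₂ ≠ ⊤) :
    IsGorensteinLocalRing (S ⧸ (a₁ ⊔ a₂)) ∧ ringKrullDim (S ⧸ (a₁ ⊔ a₂)) + 1 = n := by
  obtain ⟨m, hmn, hCM, hdimC⟩ := cm_and_dim_quotient_sup S n hn a₁ a₂ h12 h21 hinf hd1 hd2 htop
  refine ⟨?_, by rw [hdimC, ← hmn]; push_cast; rfl⟩
  haveI := hCM
  obtain ⟨E, _, _, f, hf⟩ :=
    Groth.Agent.Helper1.InjHullL.exists_injectiveHull (R := S ⧸ (a₁ ⊔ a₂))
      (ResidueField (S ⧸ (a₁ ⊔ a₂)))
  letI : Module S E := Module.compHom E (algebraMap S (S ⧸ (a₁ ⊔ a₂)))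
  haveI : IsScalarTower S (S ⧸ (a₁ ⊔ a₂)) E := IsScalarTower.of_algebraMap_smul (fun r x => rfl)
  obtain ⟨K, _, _, _, _, hKfin, ⟨eK⟩, ⟨eExt⟩⟩ := exists_canon_ext (S ⧸ (a₁ ⊔ a₂)) m hdimC E f hf S
    Ideal.Quotient.mk_surjective n hn
  haveI := hKfin
  have hnm : n - m = 1 := by omega
  rw [hnm] at eExt
  have hdN : (n : ℕ∞) ≤ depth S ((S ⧸ a₁) × (S ⧸ a₂)) :=
    le_trans (le_min hd1 hd2) (idealDepth_prod_ge (maximalIdeal S))
  have hext := ext_subsingleton_of_le_depth S n hn ((S ⧸ a₁) × (S ⧸ a₂)) hdN 1 Nat.one_pos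
  obtain ⟨e0⟩ := nonempty_ext_one_quotient_sup_equiv a₁ a₂ h12 h21 hinf hext
  let e1 : K ≃ₗ[S] (S ⧸ (a₁ ⊔ a₂)) := eExt.trans e0
  let e2 : K ≃ₗ[S ⧸ (a₁ ⊔ a₂)] (S ⧸ (a₁ ⊔ a₂)) :=
    e1.extendScalarsOfSurjective Ideal.Quotient.mk_surjective
  exact (isGorensteinLocalRing_iff_canon_free (S ⧸ (a₁ ⊔ a₂)) m hdimC E f hf K eK).mpr ⟨e2⟩

end Main

end Groth.Agent.Helper2.Gor
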