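import Mathlib
import Groth.Prelude
import Groth.Agent.Lib.Helper2.Gor.SumGor
import Groth.Agent.Lib.Helper2.Gor.LinkCMQuot

/-!
# The sum of two geometrically linked ideals is Gorenstein: global statement (helper2)
-/

set_option autoImplicit false
universe u

namespace Groth.Agent.Helper2.Gor

open LocCoh IsLocalRing Groth.Agent.Helper8.Depth Groth.Agent.Helper2.CM
  Groth.Agent.Helper8.GorFlat

section Global

variable (A : Type u) [CommRing A] [hG : IsGorensteinRing A] (a₁ a₂ : Ideal A)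

/-- the local statement at a prime containing `a₁ + a₂` -/
theorem localization_quotient_sup (h12 : (⊥ : Ideal A).colon (a₁ : Set A) = a₂)
    (h21 : (⊥ : Ideal A).colon (a₂ : Set A) = a₁) (hinf : a₁ ⊓ a₂ = ⊥)
    (hCM1 : IsCohenMacaulayRing (A ⧸ a₁)) (hCM2 : IsCohenMacaulayRing (A ⧸ a₂))
    (q : Ideal A) [q.IsPrime] (hq : a₁ ⊔ a₂ ≤ q) :
    IsGorensteinLocalRing
        (Localization.AtPrime q ⧸ (a₁ ⊔ a₂).map (algebraMap A (Localization.AtPrime q))) ∧
      ringKrullDim (Localization.AtPrime q ⧸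
        (a₁ ⊔ a₂).map (algebraMap A (Localization.AtPrime q))) + 1 =
        ringKrullDim (Localization.AtPrime q) := by
  haveI : IsNoetherianRing A := by haveI := hG; infer_instance
  haveI hGl : IsGorensteinLocalRing (Localization.AtPrime q) :=
    hG.isGorensteinLocalRing_localization q
  obtain ⟨n, hn⟩ := Groth.Agent.Helper8.GorFlat.exists_dim_eq (Localization.AtPrime q)
  have hd1 := le_depth_localization_quotient_of_linked A a₂ a₁ h21 h12 hCM2 q n hn
  have hd2 := le_depth_localization_quotient_of_linked A a₁ a₂ h12 h21 hCM1 q n hn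
  have h12' := colon_bot_map q.primeCompl (Localization.AtPrime q) a₁ a₂
    (IsNoetherian.noetherian _) h12
  have h21' := colon_bot_map q.primeCompl (Localization.AtPrime q) a₂ a₁
    (IsNoetherian.noetherian _) h21
  have hinf' : a₁.map (algebraMap A (Localization.AtPrime q)) ⊓
      a₂.map (algebraMap A (Localization.AtPrime q)) = ⊥ := by
    rw [← IsLocalization.map_inf q.primeCompl, hinf, Ideal.map_bot]
  have htop : (a₁ ⊔ a₂).map (algebraMap A (Localization.AtPrime q)) ≠ ⊤ := by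
    rw [IsLocalization.map_algebraMap_ne_top_iff_disjoint q.primeCompl]
    rw [Set.disjoint_left]
    intro y hy hyJ
    exact hy (hq hyJ)
  rw [Ideal.map_sup] at htop ⊢
  rw [hn]
  exact isGorensteinLocalRing_quotient_sup (Localization.AtPrime q) n hn _ _ h12' h21' hinf'
    hd1 hd2 htop

theorem isGorensteinRing_quotient_sup (h12 : (⊥ : Ideal A).colon (a₁ : Set A) = a₂)
    (h21 : (⊥ : Ideal A).colon (a₂ : Set A) = a₁) (hinf : a₁ ⊓ a₂ = ⊥)
    (hCM1 : IsCohenMacaulayRing (A ⧸ a₁)) (hCM2 : IsCohenMacaulayRing (A ⧸ a₂)) :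
    IsGorensteinRing (A ⧸ (a₁ ⊔ a₂)) := by
  haveI : IsNoetherianRing A := by haveI := hG; infer_instance
  refine { isGorensteinLocalRing_localization := fun Q' hQ' => ?_ }
  have hJq : a₁ ⊔ a₂ ≤ Q'.comap (Ideal.Quotient.mk (a₁ ⊔ a₂)) := by
    intro y hy
    rw [Ideal.mem_comap, Ideal.Quotient.eq_zero_iff_mem.mpr hy]
    exact Q'.zero_mem
  have hmap : Q' = (Q'.comap (Ideal.Quotient.mk (a₁ ⊔ a₂))).map (Ideal.Quotient.mk (a₁ ⊔ a₂)) :=
    (Ideal.map_comap_of_surjective _ Ideal.Quotient.mk_surjective Q').symm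
  haveI hqp : (Q'.comap (Ideal.Quotient.mk (a₁ ⊔ a₂))).IsPrime := Ideal.comap_isPrime _ _
  generalize Q'.comap (Ideal.Quotient.mk (a₁ ⊔ a₂)) = q at hJq hmap hqp
  subst hmap
  have h3 := (localization_quotient_sup A a₁ a₂ h12 h21 hinf hCM1 hCM2 q hJq).1
  exact isGorensteinLocalRing_of_ringEquiv
    (Groth.Agent.Helper8.Sk.locQuotEquiv A (a₁ ⊔ a₂) q hJq).symm h3

/-- at a minimal prime of `a₁ + a₂` the ring `A` has dimension one -/
theorem ringKrullDim_localization_eq_one_of_minimal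
    (h12 : (⊥ : Ideal A).colon (a₁ : Set A) = a₂)
    (h21 : (⊥ : Ideal A).colon (a₂ : Set A) = a₁) (hinf : a₁ ⊓ a₂ = ⊥)
    (hCM1 : IsCohenMacaulayRing (A ⧸ a₁)) (hCM2 : IsCohenMacaulayRing (A ⧸ a₂))
    (q : Ideal A) [q.IsPrime] (hq : q ∈ (a₁ ⊔ a₂).minimalPrimes) :
    ringKrullDim (Localization.AtPrime q) = 1 := by
  have hle : a₁ ⊔ a₂ ≤ q := hq.1.2
  obtain ⟨-, h2⟩ := localization_quotient_sup A a₁ a₂ h12 h21 hinf hCM1 hCM2 q hle
  haveI hqp : (q.map (Ideal.Quotient.mk (a₁ ⊔ a₂))).IsPrime := isPrime_map_mk _ q hle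
  have h3 : q.map (Ideal.Quotient.mk (a₁ ⊔ a₂)) ∈ minimalPrimes (A ⧸ (a₁ ⊔ a₂)) := by
    rw [Ideal.minimalPrimes_eq_comap] at hq
    obtain ⟨p', hp', rfl⟩ := hq
    rw [Ideal.map_comap_of_surjective _ Ideal.Quotient.mk_surjective]
    exact hp'
  have h4 : (q.map (Ideal.Quotient.mk (a₁ ⊔ a₂))).height = 0 := Ideal.height_eq_zero_iff.mpr h3
  have h5 : ringKrullDim (Localization.AtPrime q ⧸
      (a₁ ⊔ a₂).map (algebraMap A (Localization.AtPrime q))) = 0 := by
    rw [← ringKrullDim_eq_of_ringEquiv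
      (Groth.Agent.Helper8.Sk.locQuotEquiv A (a₁ ⊔ a₂) q hle),
      IsLocalization.AtPrime.ringKrullDim_eq_height (q.map (Ideal.Quotient.mk (a₁ ⊔ a₂))), h4]
    rfl
  rw [h5, zero_add] at h2
  exact h2.symm

end Global

end Groth.Agent.Helper2.Gor
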