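import Mathlib
import Groth.Prelude
import Groth.Agent.Lib.Helper2.Gor.SumGorGlobal
import Groth.Agent.Lib.Helper2.Gor.LinkGor
import Groth.Agent.Lib.Helper2.CM.DoubleLinkLC

/-!
# The sum of two geometrically linked ideals: ideals of the ambient ring (helper2)
-/

set_option autoImplicit false
universe u

namespace Groth.Agent.Helper2.Gor

open LocCoh Groth.Agent.Helper2.CM

section General

variable {R : Type u} [CommRing R]

/-- `(I₁ ∩ I₂) : I₁ = I₂` when no associated prime of `R/I₂` contains `I₁`. -/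
theorem inf_colon_eq_of_not_le [IsNoetherianRing R] (I₁ I₂ : Ideal R)
    (h : ∀ P ∈ associatedPrimes R (R ⧸ I₂), ¬ I₁ ≤ P) :
    (I₁ ⊓ I₂).colon (I₁ : Set R) = I₂ := by
  apply le_antisymm
  · intro x hx
    by_contra hxI
    have hne : (Ideal.Quotient.mk I₂ x : R ⧸ I₂) ≠ 0 := by
      rwa [Ne, Ideal.Quotient.eq_zero_iff_mem]
    obtain ⟨P, hPass, hle⟩ :=
      exists_le_isAssociatedPrime_of_isNoetherianRing R (Ideal.Quotient.mk I₂ x : R ⧸ I₂) hne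
    apply h P hPass
    intro y hy
    apply hle
    rw [Submodule.mem_colon_singleton, Submodule.mem_bot]
    rw [Submodule.mem_colon] at hx
    have h1 := (hx y hy).2
    rw [smul_eq_mul] at h1
    change y • Ideal.Quotient.mk I₂ x = 0
    rw [← Ideal.Quotient.mk_eq_mk, ← Submodule.Quotient.mk_smul, Submodule.Quotient.mk_eq_zero,
      smul_eq_mul, mul_comm]
    exact h1
  · intro x hx
    rw [Submodule.mem_colon]
    intro y hy
    rw [smul_eq_mul]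
    exact ⟨Ideal.mul_mem_left _ _ hy, Ideal.mul_mem_right _ _ hx⟩

lemma map_mk_inf_map_mk (I₁ I₂ : Ideal R) :
    I₁.map (Ideal.Quotient.mk (I₁ ⊓ I₂)) ⊓ I₂.map (Ideal.Quotient.mk (I₁ ⊓ I₂)) = ⊥ := by
  rw [eq_bot_iff]
  intro x hx
  obtain ⟨r, rfl⟩ := Ideal.Quotient.mk_surjective x
  rw [Submodule.mem_inf, Ideal.mem_quotient_iff_mem inf_le_left,
    Ideal.mem_quotient_iff_mem inf_le_right] at hx
  rw [Submodule.mem_bot, Ideal.Quotient.eq_zero_iff_mem]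
  exact ⟨hx.1, hx.2⟩

variable (I₁ I₂ : Ideal R) [hG : IsGorensteinRing (R ⧸ (I₁ ⊓ I₂))]

theorem isGorensteinRing_quotient_sup' (h12 : (I₁ ⊓ I₂).colon (I₁ : Set R) = I₂)
    (h21 : (I₁ ⊓ I₂).colon (I₂ : Set R) = I₁)
    (hCM1 : IsCohenMacaulayRing (R ⧸ I₁)) (hCM2 : IsCohenMacaulayRing (R ⧸ I₂)) :
    IsGorensteinRing (R ⧸ (I₁ ⊔ I₂)) := by
  have h1 := colon_bot_map_mk (I₁ ⊓ I₂) I₁ I₂ inf_le_right h12
  have h2 := colon_bot_map_mk (I₁ ⊓ I₂) I₂ I₁ inf_le_left h21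
  have h3 : IsCohenMacaulayRing ((R ⧸ (I₁ ⊓ I₂)) ⧸ I₁.map (Ideal.Quotient.mk (I₁ ⊓ I₂))) :=
    Groth.Agent.Helper8.CplQuot.isCohenMacaulayRing_of_ringEquiv
      (DoubleQuot.quotQuotEquivQuotOfLE inf_le_left).symm hCM1
  have h4 : IsCohenMacaulayRing ((R ⧸ (I₁ ⊓ I₂)) ⧸ I₂.map (Ideal.Quotient.mk (I₁ ⊓ I₂))) :=
    Groth.Agent.Helper8.CplQuot.isCohenMacaulayRing_of_ringEquiv
      (DoubleQuot.quotQuotEquivQuotOfLE inf_le_right).symm hCM2
  have h5 := isGorensteinRing_quotient_sup (R ⧸ (I₁ ⊓ I₂)) _ _ h1 h2 (map_mk_inf_map_mk I₁ I₂)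
    h3 h4
  rw [← Ideal.map_sup] at h5
  exact Groth.Agent.Helper8.GorFlat.isGorensteinRing_of_ringEquiv
    (DoubleQuot.quotQuotEquivQuotOfLE (inf_le_left.trans le_sup_left)) h5

theorem ringKrullDim_localization_quotient_inf_eq_one
    (h12 : (I₁ ⊓ I₂).colon (I₁ : Set R) = I₂) (h21 : (I₁ ⊓ I₂).colon (I₂ : Set R) = I₁)
    (hCM1 : IsCohenMacaulayRing (R ⧸ I₁)) (hCM2 : IsCohenMacaulayRing (R ⧸ I₂))
    (P : Ideal R) (hP : P ∈ (I₁ ⊔ I₂).minimalPrimes)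
    [hq : (P.map (Ideal.Quotient.mk (I₁ ⊓ I₂))).IsPrime] :
    ringKrullDim (Localization.AtPrime (P.map (Ideal.Quotient.mk (I₁ ⊓ I₂)))) = 1 := by
  have h1 := colon_bot_map_mk (I₁ ⊓ I₂) I₁ I₂ inf_le_right h12
  have h2 := colon_bot_map_mk (I₁ ⊓ I₂) I₂ I₁ inf_le_left h21
  have h3 : IsCohenMacaulayRing ((R ⧸ (I₁ ⊓ I₂)) ⧸ I₁.map (Ideal.Quotient.mk (I₁ ⊓ I₂))) :=
    Groth.Agent.Helper8.CplQuot.isCohenMacaulayRing_of_ringEquiv
      (DoubleQuot.quotQuotEquivQuotOfLE inf_le_left).symm hCM1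
  have h4 : IsCohenMacaulayRing ((R ⧸ (I₁ ⊓ I₂)) ⧸ I₂.map (Ideal.Quotient.mk (I₁ ⊓ I₂))) :=
    Groth.Agent.Helper8.CplQuot.isCohenMacaulayRing_of_ringEquiv
      (DoubleQuot.quotQuotEquivQuotOfLE inf_le_right).symm hCM2
  apply ringKrullDim_localization_eq_one_of_minimal (R ⧸ (I₁ ⊓ I₂)) _ _ h1 h2
    (map_mk_inf_map_mk I₁ I₂) h3 h4
  rw [← Ideal.map_sup, Ideal.minimalPrimes_map_of_surjective Ideal.Quotient.mk_surjective,
    Ideal.mk_ker, sup_eq_left.mpr (inf_le_left.trans le_sup_left)]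
  exact ⟨P, hP, rfl⟩

end General

section Poly

open Groth.Agent.Lib.Helper6.GrCM

variable {n : ℕ} {K : Type u} [Field K]

/-- associated primes of a homogeneous Cohen–Macaulay quotient are minimal of the height of the
ideal -/
lemma mem_minimalPrimes_and_height_of_mem_associatedPrimes
    (I : Ideal (MvPolynomial (Fin (n + 1)) K))
    (hI : I.IsHomogeneous (GrSyz.stdGr K (Fin (n + 1))))
    [hCM : IsCohenMacaulayRing (MvPolynomial (Fin (n + 1)) K ⧸ I)]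
    (P : Ideal (MvPolynomial (Fin (n + 1)) K))
    (hP : P ∈ associatedPrimes (MvPolynomial (Fin (n + 1)) K) (MvPolynomial (Fin (n + 1)) K ⧸ I)) :
    P ∈ I.minimalPrimes ∧ P.height = I.height :=
  ⟨Groth.Agent.S18866.H18866.mem_minimalPrimes_of_mem_ass_quotient _ I
      (fun p _ => hCM.isCohenMacaulayLocalRing_localization p) P hP,
    height_eq_of_mem_associatedPrimes_of_homog I hI P hP⟩

lemma height_of_mem_minimalPrimes_of_homog (I : Ideal (MvPolynomial (Fin (n + 1)) K))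
    (hI : I.IsHomogeneous (GrSyz.stdGr K (Fin (n + 1))))
    [hCM : IsCohenMacaulayRing (MvPolynomial (Fin (n + 1)) K ⧸ I)]
    (Q : Ideal (MvPolynomial (Fin (n + 1)) K)) (hQ : Q ∈ I.minimalPrimes) :
    Q.height = I.height := by
  have hQass : Q ∈ associatedPrimes (MvPolynomial (Fin (n + 1)) K)
      (MvPolynomial (Fin (n + 1)) K ⧸ I) := by
    apply Module.associatedPrimes.minimalPrimes_annihilator_subset_associatedPrimes
    rwa [Ideal.annihilator_quotient]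
  exact height_eq_of_mem_associatedPrimes_of_homog I hI Q hQass

variable (I₁ I₂ : Ideal (MvPolynomial (Fin (n + 1)) K))
  (hI₁ : I₁.IsHomogeneous (GrSyz.stdGr K (Fin (n + 1))))
  (hI₂ : I₂.IsHomogeneous (GrSyz.stdGr K (Fin (n + 1))))
  [hCM1 : IsCohenMacaulayRing (MvPolynomial (Fin (n + 1)) K ⧸ I₁)]
  [hCM2 : IsCohenMacaulayRing (MvPolynomial (Fin (n + 1)) K ⧸ I₂)]
  (c : ℕ) (h₁ : I₁.height = c) (h₂ : I₂.height = c)

include hI₁ hI₂ h₁ h₂ in
lemma not_le_of_mem_associatedPrimes_of_disjoint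
    (hdisj : Disjoint I₁.minimalPrimes I₂.minimalPrimes)
    (P : Ideal (MvPolynomial (Fin (n + 1)) K))
    (hP : P ∈ associatedPrimes (MvPolynomial (Fin (n + 1)) K)
      (MvPolynomial (Fin (n + 1)) K ⧸ I₂)) : ¬ I₁ ≤ P := by
  intro hle
  obtain ⟨hP2, hPh⟩ := mem_minimalPrimes_and_height_of_mem_associatedPrimes I₂ hI₂ P hP
  haveI hPp : P.IsPrime := hP2.1.1
  obtain ⟨Q, hQ, hQP⟩ := Ideal.exists_minimalPrimes_le hle
  haveI hQp : Q.IsPrime := hQ.1.1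
  have hQh := height_of_mem_minimalPrimes_of_homog I₁ hI₁ Q hQ
  haveI : Q.FiniteHeight := Q.finiteHeight_iff.mpr (Or.inr (by
    rw [hQh, h₁]; exact ENat.natCast_ne_top c))
  have hQeq : Q = P :=
    Ideal.eq_of_le_of_height_le (I := Q) (J := P) hQP (by rw [hQh, hPh, h₁, h₂])
  rw [hQeq] at hQ
  exact Set.disjoint_left.mp hdisj hQ hP2

include hI₁ hI₂ h₁ h₂ in
theorem inf_colon_eq_of_disjoint (hdisj : Disjoint I₁.minimalPrimes I₂.minimalPrimes) :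
    (I₁ ⊓ I₂).colon (I₁ : Set (MvPolynomial (Fin (n + 1)) K)) = I₂ :=
  inf_colon_eq_of_not_le I₁ I₂
    (fun P hP => not_le_of_mem_associatedPrimes_of_disjoint I₁ I₂ hI₁ hI₂ c h₁ h₂ hdisj P hP)

include hI₁ hI₂ h₁ h₂ in
/-- **Sum of geometrically linked arithmetically Cohen–Macaulay ideals.** -/
theorem height_sup_and_isGorensteinRing_quotient_sup
    (hdisj : Disjoint I₁.minimalPrimes I₂.minimalPrimes)
    [hG : IsGorensteinRing (MvPolynomial (Fin (n + 1)) K ⧸ (I₁ ⊓ I₂))] :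
    (I₁ ⊔ I₂).height = c + 1 ∧ IsGorensteinRing (MvPolynomial (Fin (n + 1)) K ⧸ (I₁ ⊔ I₂)) := by
  have h12 := inf_colon_eq_of_disjoint I₁ I₂ hI₁ hI₂ c h₁ h₂ hdisj
  have h21 : (I₁ ⊓ I₂).colon (I₂ : Set (MvPolynomial (Fin (n + 1)) K)) = I₁ := by
    rw [inf_comm]
    exact inf_colon_eq_of_disjoint I₂ I₁ hI₂ hI₁ c h₂ h₁ hdisj.symm
  refine ⟨?_, isGorensteinRing_quotient_sup' I₁ I₂ h12 h21 hCM1 hCM2⟩
  have hCMR : IsCohenMacaulayRing (MvPolynomial (Fin (n + 1)) K) :=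
    Groth.Agent.Helper8.CplMap.isCohenMacaulayRing_of_isRegularRing _
  have hCM𝔠 : IsCohenMacaulayRing (MvPolynomial (Fin (n + 1)) K ⧸ (I₁ ⊓ I₂)) :=
    Groth.Agent.Helper8.GorFlat.isCohenMacaulayRing_of_isGorensteinRing _ hG
  have hI₁top : I₁ ≠ ⊤ := by
    rintro rfl
    rw [Ideal.height_top] at h₁
    exact ENat.top_ne_natCast _ h₁
  have hI₂top : I₂ ≠ ⊤ := by
    rintro rfl
    rw [Ideal.height_top] at h₂
    exact ENat.top_ne_natCast _ h₂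
  have hTtop : I₁ ⊔ I₂ ≠ ⊤ := by
    intro htop
    have hle : I₁ ⊔ I₂ ≤ irr (Fin (n + 1)) K :=
      sup_le (le_irr_of_isHomogeneous I₁ hI₁ hI₁top) (le_irr_of_isHomogeneous I₂ hI₂ hI₂top)
    rw [htop] at hle
    exact (irr_isMaximal (n := n) (K := K)).ne_top (top_le_iff.mp hle)
  have claim : ∀ P ∈ (I₁ ⊔ I₂).minimalPrimes, P.height = (c : ℕ∞) + 1 := by
    intro P hP
    haveI hPp : P.IsPrime := hP.1.1
    have hTP : I₁ ⊔ I₂ ≤ P := hP.1.2
    have h𝔠P : I₁ ⊓ I₂ ≤ P := (inf_le_left.trans le_sup_left).trans hTP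
    haveI hq : (P.map (Ideal.Quotient.mk (I₁ ⊓ I₂))).IsPrime := isPrime_map_mk _ P h𝔠P
    have hdim := ringKrullDim_localization_quotient_inf_eq_one I₁ I₂ h12 h21 hCM1 hCM2 P hP
    obtain ⟨Q, hQ, hQP⟩ := Ideal.exists_minimalPrimes_le (le_sup_left.trans hTP : I₁ ≤ P)
    haveI hQp : Q.IsPrime := hQ.1.1
    have hQh : Q.height = c := by
      rw [height_of_mem_minimalPrimes_of_homog I₁ hI₁ Q hQ, h₁]
    have hQ𝔠 : Q ∈ (I₁ ⊓ I₂).minimalPrimes := by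
      refine ⟨⟨hQp, inf_le_left.trans hQ.1.2⟩, ?_⟩
      rintro Q' ⟨hQ'p, hQ'le⟩ hQ'Q
      rcases (Ideal.IsPrime.inf_le hQ'p).mp hQ'le with h | h
      · exact hQ.2 ⟨hQ'p, h⟩ hQ'Q
      · have h3 : (c : ℕ∞) ≤ Q'.height := by rw [← h₂]; exact Ideal.height_mono h
        haveI : Q'.FiniteHeight := Q'.finiteHeight_iff.mpr (Or.inr (by
          have := (Ideal.height_mono hQ'Q).trans_eq hQh
          exact ne_top_of_le_ne_top (ENat.natCast_ne_top c) this))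
        have : Q' = Q :=
          Ideal.eq_of_le_of_height_le (I := Q') (J := Q) hQ'Q (by rw [hQh]; exact h3)
        rw [this]
    have h := height_add_supportDim_eq hCMR (I₁ ⊓ I₂) P h𝔠P
      (hCM𝔠.isCohenMacaulayLocalRing_localization _) Q hQ𝔠 hQP
    rw [supportDim_localizedModule_quotient (I₁ ⊓ I₂) P h𝔠P, hdim, hQh] at h
    have h' : (((c : ℕ∞) + 1 : ℕ∞) : WithBot ℕ∞) = ((P.height : ℕ∞) : WithBot ℕ∞) := by
      rw [← h]
      push_cast
      rfl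
    exact (WithBot.coe_injective h').symm
  obtain ⟨⟨P₀, hP₀⟩⟩ := Ideal.nonempty_minimalPrimes hTtop
  rw [Ideal.height_eq_inf_minimalPrimes]
  apply le_antisymm
  · exact (iInf₂_le P₀ hP₀).trans (claim P₀ hP₀).le
  · exact le_iInf₂ (fun P hP => (claim P hP).ge)

end Poly

end Groth.Agent.Helper2.Gor
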